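import Cfsg.Agent.Lib.Recognition.HalfClasses.Basic

/-!
# The fusion bound for an abelian Sylow 2-subgroup
-/

set_option autoImplicit false
set_option linter.unusedSectionVars false
set_option linter.style.haveILetI false

namespace CfsgLib.Recognition.HalfClasses

open Subgroup CfsgLib.Fusion.Basic CfsgLib.Fusion.Transfer CfsgLib.Fusion.Abelian

variable {G : Type*} [Group G] [Finite G]

/-- The conclusion of the fusion analysis: all fusion in `P` happens modulo a small subgroup. -/
def FusionBound (P : Subgroup G) : Prop :=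
  ∃ V : Subgroup G, V ≤ P ∧ Nat.card V ≤ 4 ∧ (∀ v ∈ V, v * v = 1) ∧
    ∀ x ∈ P, ∀ y ∈ P, IsConj x y → x⁻¹ * y ∈ V

omit [Finite G] in
/-- A commutator with an element of odd order fixed by it is trivial. -/
theorem eq_one_of_fixed {h x : G} (hh : Odd (orderOf h)) {k : ℕ}
    (hk : (x⁻¹ * (h * x * h⁻¹)) ^ 2 ^ k = 1)
    (hfix : h * (x⁻¹ * (h * x * h⁻¹)) * h⁻¹ = x⁻¹ * (h * x * h⁻¹)) :
    h * x * h⁻¹ = x := by
  set v := x⁻¹ * (h * x * h⁻¹) with hv
  have hn : ∀ n : ℕ, h ^ n * x * (h ^ n)⁻¹ = x * v ^ n := by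
    intro n
    induction n with
    | zero => simp
    | succ n ih =>
      calc h ^ (n + 1) * x * (h ^ (n + 1))⁻¹ = h * (h ^ n * x * (h ^ n)⁻¹) * h⁻¹ := by
            rw [pow_succ']; group
        _ = h * x * h⁻¹ * (h * v ^ n * h⁻¹) := by rw [ih]; group
        _ = x * v * (h * v ^ n * h⁻¹) := by rw [hv]; group
        _ = x * v ^ (n + 1) := by rw [← conj_pow, hfix, pow_succ', mul_assoc]
  have h1 := hn (orderOf h)
  rw [pow_orderOf_eq_one, one_mul, inv_one, mul_one, left_eq_mul] at h1
  have hv1 : v = 1 := orderOf_eq_one_iff.1 (Nat.eq_one_of_dvd_coprimes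
    ((Nat.coprime_two_left.2 hh).pow_left k) (orderOf_dvd_of_pow_eq_one hk)
    (orderOf_dvd_of_pow_eq_one h1))
  rw [hv, inv_mul_eq_one] at hv1
  exact hv1.symm

theorem Setting.fusionBound_of_comm {P : Sylow 2 G} (h : Setting G P)
    (hP : IsMulCommutative ↥(P : Subgroup G)) : FusionBound (P : Subgroup G) := by
  classical
  haveI : Fact (Nat.Prime 2) := ⟨Nat.prime_two⟩
  have hcomm : ∀ a b : ↥(P : Subgroup G), a * b = b * a := fun a b => hP.is_comm.comm a b
  have hPC : (P : Subgroup G) ≤ centralizer (P : Set G) := fun a ha =>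
    mem_centralizer_iff.2 fun b hb => congrArg Subtype.val (hcomm ⟨b, hb⟩ ⟨a, ha⟩)
  set C : Subgroup ↥(P : Subgroup G) :=
    (centralizer (normalizer (P : Set G) : Set G)).subgroupOf (P : Subgroup G) with hC
  have hmemC : ∀ x : ↥(P : Subgroup G), x ∈ C ↔
      ∀ n ∈ normalizer (P : Set G), n * (x : G) * n⁻¹ = x := fun x => by
    simp only [hC, mem_subgroupOf, mem_centralizer_iff, mul_inv_eq_iff_eq_mul, SetLike.mem_coe]
  -- two-elements of the normaliser centralise `P`
  have htwo : ∀ n ∈ normalizer (P : Set G), (∃ k : ℕ, n ^ 2 ^ k = 1) → n ∈ (P : Subgroup G) := by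
    intro n hn hk
    obtain ⟨k, hk⟩ := hk
    obtain ⟨i, -, hi⟩ := (Nat.dvd_prime_pow Nat.prime_two).1 (orderOf_dvd_of_pow_eq_one hk)
    have hp : IsPGroup 2 (zpowers n) := IsPGroup.of_card (n := i) ((Nat.card_zpowers n).trans hi)
    have hsup := hp.to_sup_of_normal_right' P.2 ((zpowers_le).2 hn)
    exact (P.3 hsup le_sup_right) ▸ mem_sup_left (mem_zpowers n)
  have hodd : ∀ x : ↥(P : Subgroup G), x ∉ C → ∃ n ∈ normalizer (P : Set G), Odd (orderOf n) ∧
      n * (x : G) * n⁻¹ ≠ x := by
    intro x hx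
    by_contra hcon
    push Not at hcon
    refine hx ((hmemC x).2 fun n hn => ?_)
    have : n ∈ centralizer ({(x : G)} : Set G) := mem_of_two_of_odd
      (fun j hj => mem_centralizer_singleton_iff.2
        (mem_centralizer_iff.1 (hPC (htwo _ (zpow_mem hn j) hj)) x x.2).symm)
      (fun j hj => mem_centralizer_singleton_iff.2
        (mul_inv_eq_iff_eq_mul.1 (hcon _ (zpow_mem hn j) hj)))
    rw [mem_centralizer_singleton_iff.1 this, mul_inv_cancel_right]
  -- some element is moved
  obtain ⟨x₁, hx₁⟩ : ∃ x, x ∉ C := by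
    by_contra hcon
    push Not at hcon
    refine h.not_npc (npc_of_normalizer_le_centralizer P fun n hn => mem_centralizer_iff.2 fun a ha => ?_)
    exact (mul_inv_eq_iff_eq_mul.1 ((hmemC ⟨a, ha⟩).1 (hcon _) n hn)).symm
  obtain ⟨t, htn, hto, htx⟩ := hodd x₁ hx₁
  -- conjugation by `n` on `P`
  let cj : (n : G) → n ∈ normalizer (P : Set G) → ↥(P : Subgroup G) → ↥(P : Subgroup G) :=
    fun n hn x => ⟨n * x * n⁻¹, (mem_normalizer_iff.1 hn x).1 x.2⟩
  have hX : ∀ (x : ↥(P : Subgroup G)) n, n ∈ normalizer (P : Set G) → Odd (orderOf n) →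
      n * (x : G) * n⁻¹ ≠ x → (n * n) * (x : G) * (n * n)⁻¹ ≠ x ∧
        (n * n) * (x : G) * (n * n)⁻¹ ≠ n * (x : G) * n⁻¹ := by
    intro x n _ ho hne
    refine ⟨fun e => hne ?_, fun e => hne ?_⟩
    · have : n ∈ centralizer ({(x : G)} : Set G) :=
        mem_of_sq_mem ho (mem_centralizer_singleton_iff.2 (mul_inv_eq_iff_eq_mul.1 e))
      rw [mem_centralizer_singleton_iff.1 this, mul_inv_cancel_right]
    · have : n * (n * (x : G) * n⁻¹) * n⁻¹ = n * (x : G) * n⁻¹ := by
        exact (by group : _ = (n * n) * (x : G) * (n * n)⁻¹).trans e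
      exact mul_left_cancel (mul_right_cancel this)
  cases nonempty_fintype G
  letI : Fintype (TwoClasses G) := Fintype.ofFinite _
  set f : ↥(P : Subgroup G) → TwoClasses G := fun x => toClass P (ConjClasses.mk x) with hf
  have hfsurj : Function.Surjective f := fun c => by
    obtain ⟨d, rfl⟩ := toClass_surjective P c
    obtain ⟨a, rfl⟩ := d.exists_rep
    exact ⟨a, rfl⟩
  have hfconj : ∀ (x : ↥(P : Subgroup G)) n (hn : n ∈ normalizer (P : Set G)),
      f (cj n hn x) = f x := fun x n hn =>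
    (toClass_eq_iff P).2 (IsConj.symm (isConj_iff.2 ⟨n, rfl⟩))
  set M := Finset.univ.filter fun x : ↥(P : Subgroup G) => x ∉ C with hM
  have hfib : ∀ x ∈ M, 3 ≤ (Finset.univ.filter fun y => f y = f x).card := by
    intro x hx
    obtain ⟨n, hn, ho, hne⟩ := hodd x (Finset.mem_filter.1 hx).2
    obtain ⟨h1, h2⟩ := hX x n hn ho hne
    calc 3 = ({x, cj n hn x, cj (n * n) (mul_mem hn hn) x} : Finset _).card :=
          (Finset.card_eq_three.2 ⟨_, _, _, fun e => hne (congrArg Subtype.val e).symm,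
            fun e => h1 (congrArg Subtype.val e).symm,
            fun e => h2 (congrArg Subtype.val e).symm, rfl⟩).symm
      _ ≤ _ := Finset.card_le_card fun y hy => by
          simp only [Finset.mem_insert, Finset.mem_singleton] at hy
          rcases hy with rfl | rfl | rfl <;> simp [hfconj]
  obtain ⟨hle, hlt⟩ := two_mul_card_add_le f hfsurj M hfib
  have hMc : M.card + Nat.card C = Nat.card ↥(P : Subgroup G) := by
    rw [Nat.card_eq_fintype_card (α := ↥(P : Subgroup G)), Nat.card_eq_fintype_card,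
      Fintype.card_subtype, hM, add_comm, Finset.card_filter_add_card_filter_not, Finset.card_univ]
  have hhalf := h.half
  simp only [← Nat.card_eq_fintype_card] at hle hlt
  have hCge : Nat.card ↥(P : Subgroup G) ≤ 4 * Nat.card C := by omega
  -- an odd element moving a point has fixed points of index exceeding two
  have hidx : ∀ n (hn : n ∈ normalizer (P : Set G)), Odd (orderOf n) → ∀ K : Subgroup ↥(P : Subgroup G),
      (∀ x, x ∈ K ↔ n * (x : G) * n⁻¹ = x) → K.index ≠ 2 := by
    intro n hn ho K hK h2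
    obtain ⟨x, hx⟩ : ∃ x, x ∉ K := by
      by_contra hcon
      push Not at hcon
      have : K = ⊤ := eq_top_iff.2 fun x _ => hcon x
      rw [this, index_top] at h2
      omega
    have hx' : cj n hn x ∉ K := fun hc => hx ((hK x).2 (mul_left_cancel (mul_right_cancel ((hK _).1 hc))))
    have hxi : x⁻¹ * cj n hn x ∈ K :=
      (mul_mem_iff_of_index_two h2).2 (iff_of_false (fun e => hx (inv_mem_iff.1 e)) hx')
    obtain ⟨k, hk⟩ := orderOf_pow_two_of_mem (x⁻¹ * cj n hn x).2
    exact hx ((hK x).2 (eq_one_of_fixed ho hk ((hK _).1 hxi)))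
  obtain ⟨a, -, ha⟩ := (Nat.dvd_prime_pow Nat.prime_two).1
    (show C.index ∣ 2 ^ (Nat.card ↥(P : Subgroup G)).factorization 2 by
      obtain ⟨m, hm⟩ := P.2.exists_card_eq
      have := C.index_dvd_card
      rw [hm, Nat.factorization_pow] at *
      simpa [Nat.prime_two.factorization_self] using this)
  have hC0 : 0 < Nat.card C := Nat.card_pos
  have hCi : Nat.card C * C.index = Nat.card ↥(P : Subgroup G) := C.card_mul_index
  have hCne : C.index ≠ 1 := fun e => hx₁ ((index_eq_one.1 e) ▸ mem_top x₁)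
  have hi4 : C.index ≤ 4 := by nlinarith
  -- the fixed points of `t`
  set K : Subgroup ↥(P : Subgroup G) := (centralizer ({t} : Set G)).subgroupOf (P : Subgroup G) with hK
  have hKmem : ∀ x, x ∈ K ↔ t * (x : G) * t⁻¹ = x := fun x => by
    rw [hK, mem_subgroupOf, mem_centralizer_singleton_iff, mul_inv_eq_iff_eq_mul, eq_comm]
  have hCK : C ≤ K := fun x hx => (hKmem x).2 ((hmemC x).1 hx t htn)
  have hK2 := hidx t htn hto K hKmem
  have hKd : K.index ∣ C.index := index_dvd_of_le hCK
  have hK1 : K.index ≠ 1 := fun e => htx ((hKmem x₁).1 ((index_eq_one.1 e) ▸ mem_top x₁))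
  have hCindex : C.index = 4 ∧ K.index = 4 := by
    rw [ha] at hKd hCne hi4 ⊢
    have : a ≤ 2 := by
      by_contra h3
      have : 2 ^ 3 ≤ 2 ^ a := Nat.pow_le_pow_right two_pos (by omega)
      omega
    obtain ⟨b, hb, hb'⟩ := (Nat.dvd_prime_pow Nat.prime_two).1 hKd
    rw [hb'] at hK1 hK2 ⊢
    interval_cases a <;> interval_cases b <;> simp_all
  have hCeq : K = C := (eq_of_le_of_card_ge hCK (by
    have h1 := K.card_mul_index
    rw [hCindex.2] at h1; rw [hCindex.1] at hCi
    omega)).symm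
  -- the map `x ↦ x⁻¹ t x t⁻¹`
  let θ : ↥(P : Subgroup G) →* ↥(P : Subgroup G) := MonoidHom.mk' (fun x => x⁻¹ * cj t htn x)
    fun x y => by
      have : cj t htn (x * y) = cj t htn x * cj t htn y := Subtype.ext (by simp [cj, mul_assoc])
      rw [this, mul_inv_rev]
      calc y⁻¹ * x⁻¹ * (cj t htn x * cj t htn y) = y⁻¹ * (x⁻¹ * cj t htn x) * cj t htn y := by group
        _ = x⁻¹ * cj t htn x * y⁻¹ * cj t htn y := by rw [hcomm y⁻¹]
        _ = _ := by group
  have hθker : θ.ker = C := by
    rw [← hCeq]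
    ext x
    rw [MonoidHom.mem_ker, hKmem]
    show x⁻¹ * cj t htn x = 1 ↔ _
    rw [inv_mul_eq_one, Subtype.ext_iff]
    exact eq_comm
  have hrange : Nat.card θ.range = 4 := by
    rw [← index_ker, hθker, hCindex.1]
  refine ⟨θ.range.map (P : Subgroup G).subtype, map_subtype_le _, ?_, ?_, ?_⟩
  · rw [card_map_of_injective (P : Subgroup G).subtype_injective, hrange]
  · rintro _ ⟨v, hv, rfl⟩
    suffices hs : v * v = 1 from congrArg Subtype.val hs
    by_contra hne
    have hv4 : orderOf v = 4 := by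
      have h1 : orderOf v ∣ 2 ^ 2 := by
        have := Subgroup.orderOf_dvd_natCard _ hv
        rwa [hrange] at this
      obtain ⟨i, hi, e⟩ := (Nat.dvd_prime_pow Nat.prime_two).1 h1
      interval_cases i
      · exact (hne (by rw [orderOf_eq_one_iff.1 (show orderOf v = 1 by simpa using e), one_mul])).elim
      · exact (hne (by rw [← pow_two]; exact orderOf_dvd_iff_pow_eq_one.1 (dvd_of_eq (by simpa using e)))).elim
      · simpa using e
    have hz : zpowers v = θ.range := eq_of_le_of_card_ge (zpowers_le.2 hv)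
      (by rw [Nat.card_zpowers, hv4, hrange])
    obtain ⟨x, hx⟩ := hv
    have hcv : cj t htn v ∈ zpowers v := by
      rw [hz]
      refine ⟨cj t htn x, Subtype.ext ?_⟩
      rw [← hx]
      show ((cj t htn x : G))⁻¹ * (t * (t * x * t⁻¹) * t⁻¹) = t * ((x : G)⁻¹ * (t * x * t⁻¹)) * t⁻¹
      simp only [cj]
      group
    obtain ⟨j, hj⟩ := mem_zpowers_iff.1 hcv
    -- `t` fixes `v * v`
    have hsq : cj t htn (v * v) = v * v := by
      have e1 : cj t htn (v * v) = (v * v) ^ j := by
        rw [← pow_two, ← zpow_natCast v 2, ← zpow_mul, mul_comm, zpow_mul, hj, zpow_natCast, pow_two]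
        exact Subtype.ext (by simp [cj, mul_assoc, pow_two])
      have hne1 : cj t htn (v * v) ≠ 1 := by
        intro e
        apply hne
        have e' : t * ((v * v : ↥(P : Subgroup G)) : G) * t⁻¹ = 1 := congrArg Subtype.val e
        exact Subtype.ext (by simpa using e')
      have h22 : (v * v) ^ 2 = 1 := by
        rw [← pow_two, ← pow_mul, show 2 * 2 = orderOf v by rw [hv4], pow_orderOf_eq_one]
      rcases Int.even_or_odd j with ⟨i, rfl⟩ | ⟨i, rfl⟩
      · exfalso
        apply hne1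
        rw [e1, ← two_mul, zpow_mul, zpow_ofNat, h22, one_zpow]
      · rw [e1, zpow_add, zpow_mul, zpow_ofNat, h22, one_zpow, one_mul, zpow_one]
    obtain ⟨k, hk⟩ := orderOf_pow_two_of_mem (v * v).2
    have hxx : θ (x * x) = v * v := by rw [map_mul, hx]
    refine hne ?_
    rw [← hxx]
    have hfix : t * ((x * x : ↥(P : Subgroup G)) : G) * t⁻¹ = (x * x : ↥(P : Subgroup G)) := by
      refine eq_one_of_fixed hto (k := k) ?_ ?_
      · have e : ((θ (x * x) : ↥(P : Subgroup G)) : G) = (v * v : ↥(P : Subgroup G)) := congrArg Subtype.val hxx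
        exact (congrArg (· ^ 2 ^ k) e).trans hk
      · have e : ((θ (x * x) : ↥(P : Subgroup G)) : G) = (v * v : ↥(P : Subgroup G)) := congrArg Subtype.val hxx
        exact (congrArg (fun z => t * z * t⁻¹) e).trans ((congrArg Subtype.val hsq).trans e.symm)
    rw [← MonoidHom.mem_ker, hθker, ← hCeq]
    exact (hKmem _).2 hfix
  · intro x hx y hy hxy
    by_cases hne : x = y
    · subst hne; rw [inv_mul_cancel]; exact one_mem _
    obtain ⟨n, hn, rfl⟩ := burnside_central P (hPC hx) (hPC hy) (isConj_iff.1 hxy)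
    have hxC : (⟨x, hx⟩ : ↥(P : Subgroup G)) ∉ C := fun hc => hne ((hmemC _).1 hc n hn).symm
    have htx' : t * x * t⁻¹ ≠ x := fun e => hxC (hCeq ▸ (hKmem _).2 e)
    obtain ⟨h1, h2⟩ := hX ⟨x, hx⟩ t htn hto htx'
    set X : ↥(P : Subgroup G) := ⟨x, hx⟩
    have hmem : cj n hn X = X ∨ cj n hn X = cj t htn X ∨ cj n hn X = cj (t * t) (mul_mem htn htn) X := by
      by_contra hcon
      simp only [not_or] at hcon
      obtain ⟨c1, c2, c3⟩ := hcon
      have hXM : X ∈ M := by simp [hM, hxC]
      have h4 : 4 ≤ (Finset.univ.filter fun y => f y = f X).card := by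
        calc 4 = ({cj n hn X, X, cj t htn X, cj (t * t) (mul_mem htn htn) X} : Finset _).card := by
              rw [Finset.card_insert_of_notMem (by simp [c1, c2, c3]),
                Finset.card_eq_three.2 ⟨_, _, _, fun e => htx' (congrArg Subtype.val e).symm,
                  fun e => h1 (congrArg Subtype.val e).symm,
                  fun e => h2 (congrArg Subtype.val e).symm, rfl⟩]
          _ ≤ _ := Finset.card_le_card fun z hz => by
              simp only [Finset.mem_insert, Finset.mem_singleton] at hz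
              rcases hz with rfl | rfl | rfl | rfl <;> simp [hfconj]
      have := hlt ⟨X, hXM, h4⟩
      rw [hCindex.1] at hCi
      omega
    rcases hmem with e | e | e
    · exact absurd (congrArg Subtype.val e).symm hne
    · refine ⟨θ X, ⟨X, rfl⟩, ?_⟩
      show x⁻¹ * (t * x * t⁻¹) = x⁻¹ * (n * x * n⁻¹)
      rw [show t * x * t⁻¹ = n * x * n⁻¹ from (congrArg Subtype.val e).symm]
    · refine ⟨θ X * θ (cj t htn X), mul_mem ⟨X, rfl⟩ ⟨_, rfl⟩, ?_⟩
      show (x⁻¹ * (t * x * t⁻¹)) * ((t * x * t⁻¹)⁻¹ * (t * (t * x * t⁻¹) * t⁻¹)) = x⁻¹ * (n * x * n⁻¹)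
      rw [show n * x * n⁻¹ = t * t * x * (t * t)⁻¹ from congrArg Subtype.val e]
      group

end CfsgLib.Recognition.HalfClasses
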