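import Cfsg.Agent.Lib.Recognition.HalfClasses.Count
import Cfsg.Agent.Lib.Fusion.Abelian
import Cfsg.Agent.Lib.Solvable.Cores

/-!
# Groups with exactly `|P|/2` classes of 2-elements: first consequences
-/

set_option autoImplicit false
set_option linter.unusedSectionVars false
set_option linter.style.haveILetI false

namespace CfsgLib.Recognition.HalfClasses

open Subgroup CfsgLib.Fusion.Basic CfsgLib.Fusion.Transfer CfsgLib.Fusion.Abelian

variable {G : Type*} [Group G] [Finite G]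

/-- The classes of `2`-elements. -/
abbrev TwoClasses (G : Type*) [Group G] : Type _ :=
  {c : ConjClasses G // ∀ x ∈ c.carrier, ∃ k : ℕ, orderOf x = 2 ^ k}

/-- The hypotheses of the statement. -/
structure Setting (G : Type*) [Group G] [Finite G] (P : Sylow 2 G) : Prop where
  core : Cfsg.pPrimeCore 2 G = ⊥
  half : 2 * Nat.card (TwoClasses G) = Nat.card ↥(P : Subgroup G)

omit [Finite G] in
theorem orderOf_pow_two_of_mem {P : Sylow 2 G} {x : G} (hx : x ∈ (P : Subgroup G)) :
    ∃ k : ℕ, x ^ 2 ^ k = 1 := by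
  obtain ⟨k, hk⟩ := P.2 ⟨x, hx⟩
  exact ⟨k, congrArg Subtype.val hk⟩

/-- The map from classes of `P` to classes of 2-elements of `G`. -/
noncomputable def toClass (P : Sylow 2 G) (c : ConjClasses ↥(P : Subgroup G)) : TwoClasses G :=
  ⟨ConjClasses.map (P : Subgroup G).subtype c, by
    obtain ⟨⟨a, ha⟩, rfl⟩ := c.exists_rep
    intro x hx
    obtain ⟨g, rfl⟩ := isConj_iff.1 (ConjClasses.mk_eq_mk_iff_isConj.1
      (ConjClasses.mem_carrier_iff_mk_eq.1 hx).symm :
        IsConj ((P : Subgroup G).subtype ⟨a, ha⟩) x)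
    obtain ⟨k, hk⟩ := orderOf_pow_two_of_mem ha
    obtain ⟨i, -, hi⟩ := (Nat.dvd_prime_pow Nat.prime_two).1
      (orderOf_dvd_of_pow_eq_one (x := g * a * g⁻¹) (by rw [conj_pow, hk, mul_one, mul_inv_cancel]))
    exact ⟨i, hi⟩⟩

theorem toClass_eq_iff (P : Sylow 2 G) {a b : ↥(P : Subgroup G)} :
    toClass P (ConjClasses.mk a) = toClass P (ConjClasses.mk b) ↔ IsConj (a : G) (b : G) := by
  rw [toClass, toClass, Subtype.mk.injEq]
  exact ConjClasses.mk_eq_mk_iff_isConj

theorem toClass_surjective (P : Sylow 2 G) : Function.Surjective (toClass P) := by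
  haveI : Fact (Nat.Prime 2) := ⟨Nat.prime_two⟩
  rintro ⟨c, hc⟩
  obtain ⟨g, rfl⟩ := c.exists_rep
  obtain ⟨k, hk⟩ := hc g ConjClasses.mem_carrier_mk
  obtain ⟨Q, hQ⟩ := (IsPGroup.of_card (n := k) ((Nat.card_zpowers g).trans hk) :
    IsPGroup 2 (zpowers g)).exists_le_sylow
  obtain ⟨d, hd⟩ := MulAction.exists_smul_eq G Q P
  have hm : d * g * d⁻¹ ∈ (P : Subgroup G) := by
    rw [← hd]
    exact ⟨g, hQ (mem_zpowers g), rfl⟩
  refine ⟨ConjClasses.mk ⟨_, hm⟩, Subtype.ext ?_⟩
  exact ConjClasses.mk_eq_mk_iff_isConj.2 (IsConj.symm (isConj_iff.2 ⟨d, rfl⟩))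

omit [Finite G] in
/-- An element is in a subgroup containing its 2-power and odd powers. -/
theorem mem_of_two_of_odd [Finite G] {S : Subgroup G} {g : G}
    (htwo : ∀ j : ℤ, (∃ k : ℕ, (g ^ j) ^ 2 ^ k = 1) → g ^ j ∈ S)
    (hodd : ∀ j : ℤ, Odd (orderOf (g ^ j)) → g ^ j ∈ S) : g ∈ S := by
  obtain ⟨k, m, hm, he⟩ := Nat.exists_eq_two_pow_mul_odd (orderOf_pos g).ne'
  obtain ⟨i, j, hij⟩ := exists_pow_mul_pow (g := g) (a := 2 ^ k) (b := m)
    ((Nat.coprime_two_left.2 hm).pow_left k) (dvd_of_eq he)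
  rw [hij]
  refine S.mul_mem (hodd _ ?_) (htwo _ ⟨k, ?_⟩)
  · refine hm.of_dvd_nat (orderOf_dvd_of_pow_eq_one ?_)
    rw [← zpow_natCast, ← zpow_mul, show ((2 ^ k : ℕ) : ℤ) * i * (m : ℤ) = ((2 ^ k * m : ℕ) : ℤ) * i by
      push_cast; ring, ← he, zpow_mul, zpow_natCast, pow_orderOf_eq_one, one_zpow]
  · rw [← zpow_natCast, ← zpow_mul, show (m : ℤ) * j * ((2 ^ k : ℕ) : ℤ) = ((2 ^ k * m : ℕ) : ℤ) * j by
      push_cast; ring, ← he, zpow_mul, zpow_natCast, pow_orderOf_eq_one, one_zpow]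

omit [Finite G] in
/-- An element of odd order lies in the subgroup generated by its square. -/
theorem mem_of_sq_mem {S : Subgroup G} {h : G} (ho : Odd (orderOf h)) (hs : h * h ∈ S) : h ∈ S := by
  obtain ⟨m, hm⟩ := ho
  have : (h * h) ^ (m + 1) = h := by
    rw [← pow_two, ← pow_mul, show 2 * (m + 1) = orderOf h + 1 by omega, pow_succ,
      pow_orderOf_eq_one, one_mul]
  exact this ▸ S.pow_mem hs _

namespace Setting

variable {P : Sylow 2 G} (h : Setting G P)
include h

theorem le_two_mul : Nat.card ↥(P : Subgroup G) ≤ 2 * Nat.card (ConjClasses ↥(P : Subgroup G)) := by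
  have := Nat.card_le_card_of_surjective _ (toClass_surjective P)
  have := h.half
  omega

theorem card_commutator : Nat.card (commutator ↥(P : Subgroup G)) ≤ 2 :=
  card_commutator_le_two P.2 h.le_two_mul

theorem two_mul_classes : 2 * Nat.card (ConjClasses ↥(P : Subgroup G)) =
    Nat.card ↥(P : Subgroup G) + Nat.card (center ↥(P : Subgroup G)) :=
  two_mul_card_conjClasses h.card_commutator

theorem not_npc : ¬ Cfsg.HasNormalPComplement 2 G := by
  intro hn
  haveI : Fact (Nat.Prime 2) := ⟨Nat.prime_two⟩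
  have h1 : Cfsg.pResidual 2 G = ⊥ :=
    le_bot_iff.1 (h.core ▸ CfsgLib.Solvable.Cores.le_pPrimeCore (npc_iff_coprime.1 hn))
  have htop : (P : Subgroup G) = ⊤ := by
    have := pResidual_sup_sylow P
    rwa [h1, bot_sup_eq] at this
  have hinj : Function.Injective (toClass P) := by
    intro a b hab
    obtain ⟨a, rfl⟩ := a.exists_rep
    obtain ⟨b, rfl⟩ := b.exists_rep
    obtain ⟨c, hc⟩ := isConj_iff.1 ((toClass_eq_iff P).1 hab)
    exact ConjClasses.mk_eq_mk_iff_isConj.2 (isConj_iff.2 ⟨⟨c, htop ▸ mem_top c⟩, Subtype.ext hc⟩)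
  have h2 := Nat.card_eq_of_bijective _ ⟨hinj, toClass_surjective P⟩
  have h3 := h.two_mul_classes
  have h4 := h.half
  have : 0 < Nat.card (center ↥(P : Subgroup G)) := Nat.card_pos
  omega

theorem inf_pResidual_gt_two : 2 < Nat.card ↥((P : Subgroup G) ⊓ Cfsg.pResidual 2 G) := by
  haveI : Fact (Nat.Prime 2) := ⟨Nat.prime_two⟩
  by_contra hle
  rw [Nat.not_lt] at hle
  set K := Cfsg.pResidual 2 G with hKdef
  obtain ⟨Q⟩ : Nonempty (Sylow 2 K) := inferInstance
  have hQ : Nat.card ↥(Q : Subgroup K) ≤ 2 := by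
    refine le_trans (le_of_eq ?_) hle
    obtain ⟨R, hR⟩ := (Q.2.map K.subtype).exists_le_sylow
    obtain ⟨d, hd⟩ := MulAction.exists_smul_eq G R P
    refine le_antisymm ?_ ?_
    · refine Nat.card_le_card_of_injective (fun q : ↥(Q : Subgroup K) =>
        (⟨d * ((q : K) : G) * d⁻¹, ?_, Fusion.Basic.pResidual_normal.conj_mem _ (q : K).2 d⟩ :
          ↥((P : Subgroup G) ⊓ K))) ?_
      · rw [← hd]
        exact ⟨_, hR ⟨_, q.2, rfl⟩, rfl⟩
      · intro a b e
        exact Subtype.ext (Subtype.ext (mul_left_cancel (mul_right_cancel (congrArg Subtype.val e))))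
    · have hp : IsPGroup 2 ↥(((P : Subgroup G) ⊓ K).subgroupOf K) :=
        (P.2.to_le inf_le_left).comap_of_injective _ K.subtype_injective
      obtain ⟨S, hS⟩ := hp.exists_le_sylow
      rw [Nat.card_congr (subgroupOfEquivOfLe (inf_le_right : (P : Subgroup G) ⊓ K ≤ K)).toEquiv.symm]
      exact (Nat.le_of_dvd Nat.card_pos (card_dvd_of_le hS)).trans_eq
        (S.card_eq_multiplicity.trans Q.card_eq_multiplicity.symm)
  have hcen : normalizer ((Q : Subgroup K) : Set K) ≤ centralizer ((Q : Subgroup K) : Set K) := by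
    intro n hn
    rw [mem_centralizer_iff]
    intro q hq
    by_cases hq1 : q = 1
    · subst hq1; simp
    · have hnq : n * q * n⁻¹ ∈ (Q : Subgroup K) := (mem_normalizer_iff.1 hn q).1 hq
      have : n * q * n⁻¹ = q := by
        classical
        cases nonempty_fintype ↥(Q : Subgroup K)
        by_contra hne
        have h3 := Finset.card_le_univ (α := ↥(Q : Subgroup K))
          ({1, ⟨q, hq⟩, ⟨_, hnq⟩} : Finset ↥(Q : Subgroup K))
        rw [Finset.card_eq_three.2 ⟨1, ⟨q, hq⟩, ⟨_, hnq⟩, fun e => hq1 (congrArg Subtype.val e).symm,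
          fun e => hq1 (by
            have e' : (1 : K) = n * q * n⁻¹ := congrArg Subtype.val e
            rwa [eq_comm, mul_inv_eq_one, mul_eq_left] at e'),
          fun e => hne (congrArg Subtype.val e).symm, rfl⟩, ← Nat.card_eq_fintype_card] at h3
        omega
      rw [mul_inv_eq_iff_eq_mul] at this
      exact this.symm
  have h2 := npc_iff_coprime.1 (npc_of_normalizer_le_centralizer Q hcen)
  rw [pResidual_pResidual, card_top] at h2
  exact h.not_npc (npc_iff_coprime.2 h2)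

end Setting

end CfsgLib.Recognition.HalfClasses
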