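import Cfsg.Agent.Lib.DegreeTools.Basic
import Mathlib.GroupTheory.ClassEquation

/-!
# Counting tools for groups with few classes of 2-elements
-/

set_option autoImplicit false
set_option linter.unusedSectionVars false
set_option linter.style.haveILetI false

namespace CfsgLib.Recognition.HalfClasses

open Subgroup

/-- If every fibre meeting `M` has at least three points then
`2 |M| + 3 |Y| ≤ 3 |X|`, strictly if some such fibre has four points. -/
theorem two_mul_card_add_le {X Y : Type*} [Fintype X] [Fintype Y] [DecidableEq Y] (f : X → Y)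
    (hf : Function.Surjective f) (M : Finset X)
    (h : ∀ x ∈ M, 3 ≤ (Finset.univ.filter fun y => f y = f x).card) :
    2 * M.card + 3 * Fintype.card Y ≤ 3 * Fintype.card X ∧
      ((∃ x ∈ M, 4 ≤ (Finset.univ.filter fun y => f y = f x).card) →
        2 * M.card + 3 * Fintype.card Y < 3 * Fintype.card X) := by
  classical
  have hX : Fintype.card X = ∑ y, (Finset.univ.filter fun x => f x = y).card :=
    Finset.card_eq_sum_card_fiberwise fun x _ => Finset.mem_univ (f x)
  have hM : M.card = ∑ y, (M.filter fun x => f x = y).card :=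
    Finset.card_eq_sum_card_fiberwise fun x _ => Finset.mem_univ (f x)
  have hY : Fintype.card Y = ∑ _y : Y, 1 := by simp
  have key : ∀ y, 2 * (M.filter fun x => f x = y).card + 3 * 1 ≤
      3 * (Finset.univ.filter fun x => f x = y).card := by
    intro y
    obtain ⟨x₀, hx₀⟩ := hf y
    have h1 : 0 < (Finset.univ.filter fun x => f x = y).card :=
      Finset.card_pos.2 ⟨x₀, by simp [hx₀]⟩
    have h2 : (M.filter fun x => f x = y).card ≤ (Finset.univ.filter fun x => f x = y).card :=
      Finset.card_le_card fun x hx => by simp [(Finset.mem_filter.1 hx).2]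
    by_cases he : (M.filter fun x => f x = y).card = 0
    · omega
    · obtain ⟨x, hx⟩ := Finset.card_pos.1 (Nat.pos_of_ne_zero he)
      obtain ⟨hxM, rfl⟩ := Finset.mem_filter.1 hx
      have := h x hxM
      omega
  refine ⟨?_, ?_⟩
  · rw [hX, hM, hY, Finset.mul_sum, Finset.mul_sum, Finset.mul_sum, ← Finset.sum_add_distrib]
    exact Finset.sum_le_sum fun y _ => key y
  · rintro ⟨x, hxM, hx⟩
    rw [hX, hM, hY, Finset.mul_sum, Finset.mul_sum, Finset.mul_sum, ← Finset.sum_add_distrib]
    refine Finset.sum_lt_sum (fun y _ => key y) ⟨f x, Finset.mem_univ _, ?_⟩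
    have h2 : (M.filter fun z => f z = f x).card ≤ (Finset.univ.filter fun z => f z = f x).card :=
      Finset.card_le_card fun z hz => by simp [(Finset.mem_filter.1 hz).2]
    omega

/-- `4 k(H) ≤ |H| + 3 |H : H'|`. -/
theorem four_mul_card_conjClasses_le (H : Type*) [Group H] [Finite H] :
    4 * Nat.card (ConjClasses H) ≤ Nat.card H + 3 * (commutator H).index := by
  classical
  cases nonempty_fintype H
  have hs := CfsgLib.DegreeTools.sum_deg_sq (G := H)
  have hl := CfsgLib.DegreeTools.card_linear_deg (G := H)
  rw [Nat.card_eq_fintype_card, Fintype.card_subtype, Finset.card_filter] at hl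
  rw [← CfsgLib.Char.card_irrCharacter, Nat.card_eq_fintype_card, ← Finset.card_univ,
    Finset.card_eq_sum_ones, ← hs, ← hl, Finset.mul_sum, Finset.mul_sum, ← Finset.sum_add_distrib]
  refine Finset.sum_le_sum fun χ _ => ?_
  have := CfsgLib.DegreeTools.deg_pos χ
  split_ifs with h
  · rw [h]; norm_num
  · have h2 : 2 ≤ Cfsg.charDegree (χ : H → ℂ) := by omega
    nlinarith

/-- A 2-group with at least half as many classes as elements. -/
theorem card_commutator_le_two {H : Type*} [Group H] [Finite H] (hH : IsPGroup 2 H)
    (hk : Nat.card H ≤ 2 * Nat.card (ConjClasses H)) : Nat.card (commutator H) ≤ 2 := by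
  haveI : Fact (Nat.Prime 2) := ⟨Nat.prime_two⟩
  have h := four_mul_card_conjClasses_le H
  have hc : Nat.card (commutator H) * (commutator H).index = Nat.card H := card_mul_index _
  have hi : 0 < (commutator H).index := Nat.pos_of_ne_zero index_ne_zero_of_finite
  obtain ⟨n, hn⟩ := (hH.to_subgroup (commutator H)).exists_card_eq
  have h3 : Nat.card (commutator H) ≤ 3 := by
    by_contra h4
    have := Nat.mul_le_mul_right (commutator H).index (show 4 ≤ Nat.card (commutator H) by omega)
    omega
  rw [hn] at h3 ⊢
  rcases n with _ | _ | n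
  · norm_num
  · norm_num
  · have : 2 ^ 2 ≤ 2 ^ (n + 2) := Nat.pow_le_pow_right two_pos (by omega)
    omega

/-- Conjugate elements differ by an element of the commutator subgroup. -/
theorem inv_mul_mem_commutator {H : Type*} [Group H] {x y : H} (h : IsConj x y) :
    x⁻¹ * y ∈ commutator H := by
  obtain ⟨c, rfl⟩ := isConj_iff.1 h
  rw [commutator_eq_closure]
  refine subset_closure ⟨x⁻¹, c, ?_⟩
  rw [commutatorElement_def]
  group

/-- When `|H'| ≤ 2`: `2 k(H) = |H| + |Z(H)|`. -/
theorem two_mul_card_conjClasses {H : Type*} [Group H] [Finite H]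
    (h : Nat.card (commutator H) ≤ 2) :
    2 * Nat.card (ConjClasses H) = Nat.card H + Nat.card (center H) := by
  classical
  cases nonempty_fintype H
  have hsum := Group.nat_card_center_add_sum_card_noncenter_eq_card H
  have hcar : ∀ c ∈ ConjClasses.noncenter H, Nat.card c.carrier = 2 := by
    intro c hc
    refine le_antisymm ?_ ?_
    · obtain ⟨x, rfl⟩ := c.exists_rep
      refine le_trans (Nat.card_le_card_of_injective
        (fun y : (ConjClasses.mk x).carrier => (⟨x⁻¹ * y, inv_mul_mem_commutator
          (ConjClasses.mk_eq_mk_iff_isConj.1 (ConjClasses.mem_carrier_iff_mk_eq.1 y.2).symm)⟩ :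
            commutator H)) ?_) h
      intro a b he
      exact Subtype.ext (mul_left_cancel (congrArg Subtype.val he))
    · exact Finite.one_lt_card_iff_nontrivial.2 hc.coe_sort
  rw [finsum_mem_congr rfl hcar, finsum_mem_eq_toFinset_sum, Finset.sum_const, Set.toFinset_card,
    smul_eq_mul, ← Nat.card_eq_fintype_card] at hsum
  have hcomp : Nat.card ↥(ConjClasses.noncenter H) + Nat.card ↥(ConjClasses.noncenter H)ᶜ =
      Nat.card (ConjClasses H) := by
    rw [← Nat.card_sum]
    exact Nat.card_congr (Equiv.Set.sumCompl _)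
  have hcen : Nat.card ↥(ConjClasses.noncenter H)ᶜ = Nat.card (center H) :=
    (Nat.card_congr (Set.BijOn.equiv _ (ConjClasses.mk_bijOn H))).symm
  omega

/-- The class of a central element is a point. -/
theorem eq_of_isConj_center {H : Type*} [Group H] {x y : H} (hx : x ∈ center H) (h : IsConj x y) :
    y = x := by
  obtain ⟨c, rfl⟩ := isConj_iff.1 h
  rw [mem_center_iff.1 hx c, mul_inv_cancel_right]

end CfsgLib.Recognition.HalfClasses
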