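import Cfsg.Agent.Lib.Recognition.HalfClasses.NonAbelian
import Cfsg.Agent.Lib.GWKlein.Consumers.KleinGroups
import Cfsg.Agent.Lib.Classical.SLBasic
import Mathlib.GroupTheory.SpecificGroups.Alternating

/-!
# Groups with exactly `|P|/2` classes of 2-elements
-/

set_option autoImplicit false
set_option linter.unusedSectionVars false
set_option linter.style.haveILetI false

namespace CfsgLib.Recognition.HalfClasses

open Subgroup CfsgLib.Fusion.Basic CfsgLib.Fusion.Transfer CfsgLib.Fusion.Abelian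
open scoped commutatorElement

universe u

variable {G : Type u} [Group G] [Finite G]

/-- The shape of `O^2(G)`. -/
structure Residual (G : Type u) [Group G] [Finite G] (K : Subgroup G) : Prop where
  normal : K.Normal
  comm_mem : ∀ a b : G, ⁅a, b⁆ ∈ K
  four : 4 ∣ Nat.card K
  not_eight : ¬ 8 ∣ Nat.card K
  core : Cfsg.oddCore K = ⊥
  residual : Cfsg.pResidual 2 K = ⊤
  exists_four : ∃ V : Subgroup K, IsPGroup 2 V ∧ Nat.card V = 4 ∧ (∀ v ∈ V, v * v = 1)

theorem Setting.residual {P : Sylow 2 G} (h : Setting G P) : Residual G (Cfsg.pResidual 2 G) := by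
  classical
  haveI : Fact (Nat.Prime 2) := ⟨Nat.prime_two⟩
  obtain ⟨V, hVP, hV4, hVsq, hVf⟩ := h.fusionBound
  set K := Cfsg.pResidual 2 G with hK
  have hfocal : (P : Subgroup G).focalSubgroup ≤ V := by
    rw [focalSubgroup_def, closure_le]
    rintro _ ⟨hg, x, hx, u, rfl⟩
    have hy : u * x⁻¹ * u⁻¹ ∈ (P : Subgroup G) := by
      have := mul_mem (inv_mem hx) hg
      simpa [commutatorElement_def, mul_assoc] using this
    have := hVf x⁻¹ (inv_mem hx) _ hy (isConj_iff.2 ⟨u, rfl⟩)
    simpa [commutatorElement_def, mul_assoc] using this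
  have hP2 : IsPGroup 2 (↥(P : Subgroup G) ⧸ (P : Subgroup G).focalSubgroupOf) := P.2.to_quotient _
  have hker : K ≤ (P : Subgroup G).transferFocal.ker := pResidual_le_ker _ hP2
  have hco : Nat.Coprime (P : Subgroup G).index (⁅(P : Subgroup G), (P : Subgroup G)⁆.relIndex P) := by
    obtain ⟨n, hn⟩ := P.2.exists_card_eq
    refine Nat.Coprime.coprime_dvd_right (index_dvd_card _) ?_
    rw [hn]
    exact ((Nat.prime_two.coprime_iff_not_dvd.2 P.not_dvd_index).symm).pow_right n
  have hPK : (P : Subgroup G) ⊓ K ≤ V := fun x hx => by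
    refine hfocal ?_
    rw [← ker_transferFocal_inf _ hco]
    exact ⟨hker hx.2, hx.1⟩
  have hgt := h.inf_pResidual_gt_two
  rw [← hK] at hgt
  have hcard : Nat.card ↥((P : Subgroup G) ⊓ K) = 4 := by
    obtain ⟨n, hn⟩ := (P.2.to_le (inf_le_left : (P : Subgroup G) ⊓ K ≤ _)).exists_card_eq
    have := Nat.le_of_dvd Nat.card_pos (card_dvd_of_le hPK)
    rw [hn] at hgt this ⊢
    rcases n with _ | _ | _ | n
    · norm_num at hgt
    · norm_num at hgt
    · rfl
    · have : 2 ^ 3 ≤ 2 ^ (n + 3) := Nat.pow_le_pow_right two_pos (by omega)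
      omega
  have hVK : V ≤ K := by
    have : (P : Subgroup G) ⊓ K = V := eq_of_le_of_card_ge hPK (by omega)
    exact this ▸ inf_le_right
  set W := ((P : Subgroup G) ⊓ K).subgroupOf K with hW
  have hWcard : Nat.card W = 4 := by
    rw [hW, Nat.card_congr (subgroupOfEquivOfLe (inf_le_right : (P : Subgroup G) ⊓ K ≤ K)).toEquiv, hcard]
  have hWi : ¬ 2 ∣ W.index := not_dvd_relIndex_of_normal P K
  have h8 : ¬ 8 ∣ Nat.card K := by
    rw [← W.card_mul_index, hWcard]
    omega
  refine ⟨inferInstance, ?_, ⟨W.index, by rw [← hWcard, W.card_mul_index]⟩, h8, ?_,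
    pResidual_pResidual, W, (P.2.to_le inf_le_left).comap_of_injective _ K.subtype_injective,
    hWcard, fun v hv => Subtype.ext (hVsq _ (hPK hv))⟩
  · -- commutators
    intro a b
    obtain ⟨a', ha', u, hu, rfl⟩ := exists_eq_pResidual_mul P a
    obtain ⟨b', hb', v, hv, rfl⟩ := exists_eq_pResidual_mul P b
    set π := QuotientGroup.mk' K with hπ
    have h1 : ∀ k ∈ K, π k = 1 := fun k hk => (QuotientGroup.eq_one_iff k).2 hk
    rw [← QuotientGroup.eq_one_iff, ← QuotientGroup.mk'_apply, ← hπ, map_commutatorElement,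
      map_mul, map_mul, h1 _ ha', h1 _ hb', one_mul, one_mul, ← map_commutatorElement]
    refine h1 _ (hVK (hfocal ?_))
    rw [focalSubgroup_def]
    refine subset_closure ⟨?_, u, hu, v, rfl⟩
    rw [commutatorElement_def]
    exact mul_mem (mul_mem (mul_mem hu hv) (inv_mem hu)) (inv_mem hv)
  · -- the odd core
    have h1 : (Cfsg.oddCore K).map K.subtype ≤ ⊥ := by
      rw [← h.core]
      haveI : ((Cfsg.oddCore K).map K.subtype).Normal := inferInstance
      exact CfsgLib.Solvable.Cores.le_pPrimeCore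
        (by rw [card_map_of_injective K.subtype_injective]; exact CfsgLib.Solvable.Cores.coprime_card_pPrimeCore 2)
    rwa [le_bot_iff, map_eq_bot_iff_of_injective _ K.subtype_injective] at h1

/-- An element centralising a normal subgroup containing all commutators, which it meets trivially,
is central. -/
theorem mem_center_of_centralizes {K C : Subgroup G} [C.Normal] (hc : ∀ a b : G, ⁅a, b⁆ ∈ K)
    (hCK : ∀ x ∈ C, x ∈ K → x = 1) {c : G} (hcC : c ∈ C) : c ∈ center G := by
  refine mem_center_iff.2 fun g => ?_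
  have h1 : ⁅c, g⁆ ∈ C := by
    rw [commutatorElement_def, show c * g * c⁻¹ * g⁻¹ = c * (g * c⁻¹ * g⁻¹) by group]
    exact mul_mem hcC ((inferInstance : C.Normal).conj_mem _ (inv_mem hcC) g)
  exact (commutatorElement_eq_one_iff_mul_comm.1 (hCK _ h1 (hc c g))).symm

/-- The soluble case. -/
theorem Residual.of_solvable {K : Subgroup G} (hR : Residual G K) (hs : Group.IsSolvable K) :
    Nonempty (G ⧸ center G ≃* ↥(alternatingGroup (Fin 4))) ∨
      Nonempty (G ⧸ center G ≃* Equiv.Perm (Fin 4)) := by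
  classical
  haveI : Fact (Nat.Prime 2) := ⟨Nat.prime_two⟩
  haveI : Fact (Nat.Prime 3) := ⟨Nat.prime_three⟩
  haveI := hR.normal
  haveI := hs
  obtain ⟨V, hVp, hV4, hVsq⟩ := hR.exists_four
  have hK4 : 4 ≤ Nat.card K := Nat.le_of_dvd Nat.card_pos hR.four
  haveI : Nontrivial K := Finite.one_lt_card_iff_nontrivial.1 (by omega)
  have hnotp : ¬ IsPGroup 2 K := by
    intro hp
    have h1 := npc_iff_coprime.1 (npc_of_isPGroup (p := 2) hp)
    rw [hR.residual, card_top] at h1
    obtain ⟨m, hm⟩ := hR.four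
    exact Nat.not_coprime_of_dvd_of_dvd one_lt_two ⟨2 * m, by omega⟩ dvd_rfl h1
  set F := Cfsg.fittingSubgroup K with hF
  have hFcore : F = Cfsg.pCore 2 K := CfsgLib.Solvable.Cores.fittingSubgroup_eq_pCore 2 hR.core
  haveI hFn : F.Normal := hFcore ▸ (inferInstance : (Cfsg.pCore 2 K).Normal)
  have hCF : centralizer (F : Set K) ≤ F := CfsgLib.Solvable.Cores.centralizer_fittingSubgroup_le
  have hF1 : F ≠ ⊥ := CfsgLib.Solvable.Cores.fittingSubgroup_ne_bot
  obtain ⟨S, hS⟩ := hVp.exists_le_sylow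
  have hScard : Nat.card ↥(S : Subgroup K) = 4 := by
    obtain ⟨n, hn⟩ := S.2.exists_card_eq
    have h1 := card_dvd_of_le hS
    rw [hn, hV4] at h1
    have h3 : n < 3 := by
      by_contra hlt
      exact hR.not_eight (((pow_dvd_pow 2 (Nat.not_lt.1 hlt)).trans (dvd_of_eq hn.symm)).trans
        (card_subgroup_dvd_card _))
    have := Nat.le_of_dvd (pow_pos two_pos n) h1
    interval_cases n <;> simp_all
  have hVS : V = (S : Subgroup K) := eq_of_le_of_card_ge hS (by omega)
  have hFS : F ≤ V := hVS ▸ hFcore ▸ CfsgLib.Solvable.Cores.pCore_le_sylow S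
  have hVF : F = V := by
    refine eq_of_le_of_card_ge hFS ?_
    by_contra hlt
    have hd := card_dvd_of_le hFS
    rw [hV4] at hlt hd
    have hF2 : Nat.card F = 2 := by
      have h1 : Nat.card F ≠ 1 := fun e => hF1 (Subgroup.card_eq_one.1 e)
      have := Nat.le_of_dvd (by norm_num) hd
      interval_cases hn : Nat.card F <;> omega
    have hcen : centralizer (F : Set K) = ⊤ := by
      refine eq_top_iff.2 fun k _ => mem_centralizer_iff.2 fun y hy => ?_
      by_cases hy1 : y = 1
      · subst hy1; simp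
      · obtain ⟨a, b, hab, hu⟩ := Nat.card_eq_two_iff.1 hF2
        have key : ∀ z : F, (z : K) ≠ 1 → z = ⟨y, hy⟩ := by
          intro z hz
          by_contra hne
          cases nonempty_fintype F
          have h3 := Finset.card_le_univ ({1, z, ⟨y, hy⟩} : Finset F)
          rw [Finset.card_eq_three.2 ⟨_, _, _, fun e => hz (congrArg Subtype.val e).symm,
            fun e => hy1 (congrArg Subtype.val e).symm, hne, rfl⟩, ← Nat.card_eq_fintype_card] at h3
          omega
        have e := congrArg Subtype.val (key ⟨_, hFn.conj_mem y hy k⟩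
          (fun e => hy1 (conj_eq_one_iff.1 e)))
        exact (mul_inv_eq_iff_eq_mul.1 e).symm
    have := Nat.le_of_dvd Nat.card_pos (card_dvd_of_le (hcen ▸ hCF))
    rw [card_top] at this
    omega
  have hF4 : Nat.card F = 4 := hVF ▸ hV4
  have hFsq : ∀ x : F, x * x = 1 := fun x => Subtype.ext (hVsq x (hVF ▸ x.2))
  -- the action on the three involutions of `F`
  let act : K →* Equiv.Perm {x : F // x ≠ 1} :=
    { toFun := fun k =>
        { toFun := fun x => ⟨MulAut.conjNormal k x.1, fun e => x.2 ((MulEquiv.map_eq_one_iff _).1 e)⟩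
          invFun := fun x => ⟨(MulAut.conjNormal k)⁻¹ x.1, fun e => x.2 ((MulEquiv.map_eq_one_iff _).1 e)⟩
          left_inv := fun x => Subtype.ext (MulEquiv.symm_apply_apply _ _)
          right_inv := fun x => Subtype.ext (MulEquiv.apply_symm_apply _ _) }
      map_one' := by ext x; simp
      map_mul' := fun a b => by ext x; simp [mul_assoc] }
  have hker : act.ker ≤ F := by
    intro k hk
    refine hCF (mem_centralizer_iff.2 fun y hy => ?_)
    by_cases hy1 : y = 1
    · subst hy1; simp
    · have e := congrArg (fun p => ((p.1 : F) : K))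
        (Equiv.Perm.congr_fun (MonoidHom.mem_ker.1 hk) ⟨⟨y, hy⟩, fun e => hy1 (congrArg Subtype.val e)⟩)
      exact (mul_inv_eq_iff_eq_mul.1 (show k * y * k⁻¹ = y from e)).symm
  have hcard12 : Nat.card K = 12 := by
    cases nonempty_fintype F
    have h6 : Nat.card (Equiv.Perm {x : F // x ≠ 1}) = 6 := by
      rw [Nat.card_perm, Nat.card_eq_fintype_card, Fintype.card_subtype_compl, Fintype.card_subtype_eq,
        ← Nat.card_eq_fintype_card, hF4]
      rfl
    have h1 : act.ker.index ∣ 6 := by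
      rw [index_ker, ← h6]
      exact card_subgroup_dvd_card _
    have h2 : F.index ∣ 6 := (index_dvd_of_le hker).trans h1
    have h3 := F.card_mul_index
    rw [hF4] at h3
    have h4 : F.index ≤ 6 := Nat.le_of_dvd (by norm_num) h2
    have h5 := hR.not_eight
    rw [← h3] at h5
    interval_cases hi : F.index
    all_goals first
      | omega
      | exact absurd (IsPGroup.of_card (p := 2) (n := 2) (h3.symm.trans (by norm_num))) hnotp
      | (exfalso; exact h5 (by norm_num))
      | norm_num at h2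
  obtain ⟨Q₀⟩ : Nonempty (Sylow 3 K) := inferInstance
  have hQcard : ∀ Q : Sylow 3 K, Nat.card ↥(Q : Subgroup K) = 3 := by
    intro Q
    have h3 := Q.card_eq_multiplicity
    rw [hcard12] at h3
    rw [h3, show (12 : ℕ) = 2 ^ 2 * 3 ^ 1 by norm_num, Nat.factorization_mul (by norm_num) (by norm_num),
      Finsupp.add_apply, Nat.prime_two.factorization_pow, Nat.prime_three.factorization_pow]
    simp
  have hn4 : Nat.card (Sylow 3 K) = 4 := by
    have h1 : Nat.card (Sylow 3 K) ≡ 1 [MOD 3] := card_sylow_modEq_one 3 K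
    have h2 : Nat.card (Sylow 3 K) ∣ 4 := by
      refine Q₀.card_dvd_index.trans (dvd_of_eq ?_)
      have h3 := (Q₀ : Subgroup K).card_mul_index
      rw [hQcard, hcard12] at h3
      omega
    have h3 : Nat.card (Sylow 3 K) ≠ 1 := by
      intro e
      haveI : Subsingleton (Sylow 3 K) := (Nat.card_eq_one_iff_unique.1 e).1
      haveI : (Q₀ : Subgroup K).Normal := Q₀.normal_of_subsingleton
      have h4 : (Q₀ : Subgroup K) ≤ Cfsg.oddCore K :=
        CfsgLib.Solvable.Cores.le_pPrimeCore (by rw [hQcard]; norm_num)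
      rw [hR.core, le_bot_iff] at h4
      have h5 := hQcard Q₀
      rw [h4, card_bot] at h5
      omega
    have h4 : Nat.card (Sylow 3 K) ≤ 4 := Nat.le_of_dvd (by norm_num) h2
    rw [Nat.ModEq] at h1
    omega
  have hnorm : ∀ Q : Sylow 3 K, normalizer ((Q : Subgroup K) : Set K) = (Q : Subgroup K) := by
    intro Q
    refine (eq_of_le_of_card_ge le_normalizer ?_).symm
    have h1 : 4 = (normalizer ((Q : Subgroup K) : Set K)).index :=
      hn4.symm.trans Q.card_eq_index_normalizer
    have h2 := (normalizer ((Q : Subgroup K) : Set K)).card_mul_index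
    rw [← h1, hcard12] at h2
    rw [hQcard]
    omega
  -- the action of `G` on the Sylow 3-subgroups of `K`
  let ψ : G →* Equiv.Perm (Sylow 3 K) :=
    (MulAction.toPermHom (MulAut K) (Sylow 3 K)).comp MulAut.conjNormal
  have hψ : ∀ g Q, ψ g Q = (MulAut.conjNormal g : MulAut K) • Q := fun _ _ => rfl
  have hKψ : ∀ x ∈ ψ.ker, x ∈ K → x = 1 := by
    intro x hx hxK
    have hQ : ∀ Q : Sylow 3 K, (⟨x, hxK⟩ : K) ∈ (Q : Subgroup K) := by
      intro Q
      refine (hnorm Q).le (Sylow.smul_eq_iff_mem_normalizer.1 ?_)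
      have := Equiv.Perm.congr_fun (MonoidHom.mem_ker.1 hx) Q
      rw [hψ] at this
      rw [show (⟨x, hxK⟩ : K) • Q = (MulAut.conjNormal x : MulAut K) • Q from ?_]
      · exact this
      · rw [Sylow.smul_def, show MulAut.conj (⟨x, hxK⟩ : K) = MulAut.conjNormal x from ?_]
        ext y; simp
    obtain ⟨Q₁, hQ₁⟩ : ∃ Q₁ : Sylow 3 K, Q₁ ≠ Q₀ := by
      haveI : Nontrivial (Sylow 3 K) := Finite.one_lt_card_iff_nontrivial.1 (by omega)
      exact exists_ne Q₀
    by_contra hne
    have hne' : (⟨x, hxK⟩ : K) ≠ 1 := fun e => hne (congrArg Subtype.val e)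
    have ho : ∀ Q : Sylow 3 K, zpowers (⟨x, hxK⟩ : K) = (Q : Subgroup K) := fun Q =>
      eq_of_le_of_card_ge (zpowers_le.2 (hQ Q)) (by
        rw [Nat.card_zpowers, hQcard]
        rcases (Nat.dvd_prime Nat.prime_three).1 (hQcard Q ▸ Subgroup.orderOf_dvd_natCard _ (hQ Q)) with e | e
        · exact absurd (orderOf_eq_one_iff.1 e) hne'
        · exact e.ge)
    exact hQ₁ (Sylow.ext ((ho Q₁).symm.trans (ho Q₀)))
  have hkerψ : ψ.ker = center G := by
    refine le_antisymm (fun x hx => mem_center_of_centralizes hR.comm_mem hKψ hx) fun x hx => ?_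
    rw [MonoidHom.mem_ker]
    ext Q
    rw [hψ, show (MulAut.conjNormal x : MulAut K) = 1 from ?_, one_smul]
    · rfl
    · ext y
      simp [(mem_center_iff.1 hx y).symm]
  have hrdvd : Nat.card ψ.range ∣ 24 := by
    have := card_subgroup_dvd_card ψ.range
    rwa [Nat.card_perm, hn4] at this
  have hr12 : 12 ≤ Nat.card ψ.range := by
    rw [← hcard12]
    refine Nat.card_le_card_of_injective (fun k : K => (⟨ψ k, ⟨k, rfl⟩⟩ : ψ.range)) ?_
    intro a b e
    have e' : ψ a = ψ b := congrArg Subtype.val e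
    refine inv_mul_eq_one.1 (Subtype.ext (hKψ _ ?_ (a⁻¹ * b).2))
    rw [MonoidHom.mem_ker, coe_mul, coe_inv, map_mul, map_inv, e', inv_mul_cancel]
  obtain ⟨e4⟩ : Nonempty (Sylow 3 K ≃ Fin 4) := ⟨Nat.equivFinOfCardPos (by omega) |>.trans (finCongr hn4)⟩
  let η : Equiv.Perm (Sylow 3 K) ≃* Equiv.Perm (Fin 4) := e4.permCongrHom
  set R := ψ.range.map η.toMonoidHom with hRdef
  have hRcard : Nat.card R = Nat.card ψ.range := card_map_of_injective η.injective
  have e1 : G ⧸ center G ≃* R :=
    ((QuotientGroup.quotientMulEquivOfEq hkerψ.symm).trans (QuotientGroup.quotientKerEquivRange ψ)).trans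
      (ψ.range.equivMapOfInjective _ η.injective)
  have hR24 := R.card_mul_index
  rw [Nat.card_perm, Nat.card_fin, show Nat.factorial 4 = 24 from rfl, hRcard] at hR24
  have hRle : Nat.card ψ.range ≤ 24 := Nat.le_of_dvd (by norm_num) hrdvd
  have hi : R.index ≤ 2 := by
    by_contra hlt
    have := Nat.mul_le_mul hr12 (Nat.not_le.1 hlt)
    omega
  interval_cases hR' : R.index
  · omega
  · right
    exact ⟨e1.trans ((MulEquiv.subgroupCongr (index_eq_one.1 hR')).trans Subgroup.topEquiv)⟩
  · left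
    exact ⟨e1.trans (MulEquiv.subgroupCongr (Equiv.Perm.eq_alternatingGroup_of_index_eq_two hR'))⟩

/-- The insoluble case. -/
theorem Residual.of_not_solvable {K : Subgroup G} (hR : Residual G K)
    (hK : CfsgLib.GWKlein.SimpleKlein.{u}) (hs : ¬ Group.IsSolvable K) :
    ∃ S : Subgroup (G ⧸ center G), S.Normal ∧ IsSimpleGroup ↥S ∧ ¬ IsMulCommutative ↥S ∧
      centralizer (S : Set (G ⧸ center G)) = ⊥ ∧
      ∃ (F : Type) (_ : Field F) (_ : Fintype F), 3 < Fintype.card F ∧
        (Fintype.card F % 8 = 3 ∨ Fintype.card F % 8 = 5) ∧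
        Nonempty (↥S ≃* Matrix.ProjectiveSpecialLinearGroup (Fin 2) F) := by
  classical
  haveI := hR.normal
  obtain ⟨N, hN, -, ⟨F, i1, i2, -, h3, hq, ⟨eN⟩⟩, hCN⟩ :=
    CfsgLib.GWKlein.Consumers.exists_psl_threeFive hK hR.not_eight hR.core hs
  haveI := hN
  haveI : IsSimpleGroup (Matrix.ProjectiveSpecialLinearGroup (Fin 2) F) :=
    CfsgLib.Classical.psl_fin_isSimpleGroup le_rfl fun _ => h3
  haveI hNs : IsSimpleGroup N := eN.isSimpleGroup
  have hN1 : N ≠ ⊥ := fun e => by
    haveI := hNs.1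
    exact (nontrivial_iff_ne_bot N).1 this e
  have hna : ¬ IsMulCommutative N := fun hc => hN1 (le_bot_iff.1 (hCN ▸ fun x hx =>
    mem_centralizer_iff.2 fun y hy => congrArg Subtype.val (hc.is_comm.comm ⟨y, hy⟩ ⟨x, hx⟩)))
  haveI : N.Characteristic := by
    refine characteristic_iff_map_le.2 fun e => ?_
    haveI : (N.map e.toMonoidHom).Normal := Subgroup.Normal.map hN _ e.surjective
    have hmin : (N.map e.toMonoidHom).subgroupOf N = ⊥ ∨ (N.map e.toMonoidHom).subgroupOf N = ⊤ :=
      IsSimpleGroup.eq_bot_or_eq_top_of_normal _ inferInstance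
    rcases hmin with h0 | h0
    · exfalso
      rw [subgroupOf_eq_bot] at h0
      refine hN1 ((map_eq_bot_iff_of_injective N (f := e.toMonoidHom) e.injective).1
        (le_bot_iff.1 (le_trans (fun x hx => ?_) hCN.le)))
      exact mem_centralizer_iff.2 fun y hy =>
        (Subgroup.commute_of_normal_of_disjoint _ _ inferInstance hN h0 x y hx hy).symm
    · rw [subgroupOf_eq_top] at h0
      exact (eq_of_le_of_card_ge h0 (card_map_of_injective (f := e.toMonoidHom) e.injective).le).ge
  set M := N.map K.subtype with hM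
  haveI : M.Normal := inferInstance
  have hCK : ∀ x ∈ centralizer (M : Set G), x ∈ K → x = 1 := by
    intro x hx hxK
    have : (⟨x, hxK⟩ : K) ∈ centralizer (N : Set K) := mem_centralizer_iff.2 fun y hy =>
      Subtype.ext (mem_centralizer_iff.1 hx y ⟨y, hy, rfl⟩)
    rw [hCN, mem_bot] at this
    exact congrArg Subtype.val this
  haveI : (centralizer (M : Set G)).Normal := inferInstance
  have hcen : centralizer (M : Set G) = center G :=
    le_antisymm (fun x hx => mem_center_of_centralizes hR.comm_mem hCK hx) (center_le_centralizer _)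
  set π := QuotientGroup.mk' (center G)
  have hMker : ∀ x ∈ M, π x = 1 → x = 1 := fun x hx e =>
    hCK x (hcen.ge ((QuotientGroup.eq_one_iff x).1 e)) ((map_subtype_le N) hx)
  have e1 : M ≃* M.map π := MulEquiv.ofBijective (π.subgroupMap M)
    ⟨(injective_iff_map_eq_one _).2 fun x e => Subtype.ext (hMker x x.2 (congrArg Subtype.val e)),
      π.subgroupMap_surjective M⟩
  have eS : M.map π ≃* N := e1.symm.trans (N.equivMapOfInjective _ K.subtype_injective).symm
  refine ⟨M.map π, Subgroup.Normal.map inferInstance _ (QuotientGroup.mk'_surjective _),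
    eS.isSimpleGroup, fun hc => hna ⟨⟨fun a b => eS.symm.injective (by
      rw [map_mul, map_mul]; exact hc.is_comm.comm _ _)⟩⟩, ?_, F, i1, i2, h3, hq, ⟨eS.trans eN⟩⟩
  refine le_bot_iff.1 fun y hy => ?_
  obtain ⟨g, rfl⟩ := QuotientGroup.mk'_surjective (center G) y
  rw [mem_bot, QuotientGroup.mk'_apply, QuotientGroup.eq_one_iff, ← hcen, mem_centralizer_iff]
  intro m hm
  have h1 : π ⁅m, g⁆ = 1 := by
    rw [map_commutatorElement, commutatorElement_eq_one_iff_mul_comm]
    exact mem_centralizer_iff.1 hy (π m) ⟨m, hm, rfl⟩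
  refine commutatorElement_eq_one_iff_mul_comm.1 (hMker _ ?_ h1)
  rw [commutatorElement_def, show m * g * m⁻¹ * g⁻¹ = m * (g * m⁻¹ * g⁻¹) by group]
  exact mul_mem hm ((inferInstance : M.Normal).conj_mem _ (inv_mem hm) g)

/-- The theorem, given the classification of simple groups of order not divisible by 8. -/
theorem result_of (hK : CfsgLib.GWKlein.SimpleKlein.{u}) (P : Sylow 2 G)
    (hO : Cfsg.pPrimeCore 2 G = ⊥)
    (hk : 2 * Nat.card {c : ConjClasses G // ∀ x ∈ c.carrier, ∃ k : ℕ, orderOf x = 2 ^ k} =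
      Nat.card ↥(P : Subgroup G)) :
    Nonempty (G ⧸ Subgroup.center G ≃* ↥(alternatingGroup (Fin 4))) ∨ Nonempty (G ⧸ Subgroup.center G ≃* Equiv.Perm (Fin 4)) ∨
    ∃ S : Subgroup (G ⧸ Subgroup.center G), S.Normal ∧ IsSimpleGroup ↥S ∧ ¬ IsMulCommutative ↥S ∧
      Subgroup.centralizer (S : Set (G ⧸ Subgroup.center G)) = ⊥ ∧
      ∃ (F : Type) (_ : Field F) (_ : Fintype F), 3 < Fintype.card F ∧ (Fintype.card F % 8 = 3 ∨ Fintype.card F % 8 = 5) ∧
        Nonempty (↥S ≃* Matrix.ProjectiveSpecialLinearGroup (Fin 2) F) := by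
  have hR := (⟨hO, hk⟩ : Setting G P).residual
  by_cases hs : Group.IsSolvable ↥(Cfsg.pResidual 2 G)
  · exact (hR.of_solvable hs).imp id Or.inl
  · exact Or.inr (Or.inr (hR.of_not_solvable hK hs))

end CfsgLib.Recognition.HalfClasses
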