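import Cfsg.Agent.Lib.Recognition.HalfClasses.Abelian
import Cfsg.Agent.Lib.Involution.ZStar.Main

/-!
# The fusion bound for a non-abelian Sylow 2-subgroup
-/

set_option autoImplicit false
set_option linter.unusedSectionVars false
set_option linter.style.haveILetI false

namespace CfsgLib.Recognition.HalfClasses

open Subgroup CfsgLib.Fusion.Basic CfsgLib.Fusion.Transfer CfsgLib.Fusion.Abelian
open scoped commutatorElement

universe u

variable {G : Type u} [Group G] [Finite G]

/-- The commutator subgroup of `P` has exactly two elements. -/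
theorem Setting.exists_z {P : Sylow 2 G} (h : Setting G P)
    (hP : ¬ IsMulCommutative ↥(P : Subgroup G)) :
    ∃ z : ↥(P : Subgroup G), orderOf z = 2 ∧ z ∈ center ↥(P : Subgroup G) ∧
      (∀ c, c ∈ commutator ↥(P : Subgroup G) ↔ c = 1 ∨ c = z) ∧
      ∃ a b : ↥(P : Subgroup G), ⁅a, b⁆ = z := by
  classical
  haveI : Fact (Nat.Prime 2) := ⟨Nat.prime_two⟩
  obtain ⟨a, b, hab⟩ : ∃ a b : ↥(P : Subgroup G), ⁅a, b⁆ ≠ 1 := by
    by_contra hcon
    push Not at hcon
    exact hP ⟨⟨fun a b => commutatorElement_eq_one_iff_mul_comm.1 (hcon a b)⟩⟩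
  set z := ⁅a, b⁆ with hz
  have hzc : z ∈ commutator ↥(P : Subgroup G) := commutator_mem_commutator (mem_top a) (mem_top b)
  cases nonempty_fintype G
  have hall : ∀ c, c ∈ commutator ↥(P : Subgroup G) → c = 1 ∨ c = z := by
    intro c hc
    by_contra hcon
    simp only [not_or] at hcon
    have h3 := Finset.card_le_univ ({1, ⟨c, hc⟩, ⟨z, hzc⟩} : Finset (commutator ↥(P : Subgroup G)))
    rw [Finset.card_eq_three.2 ⟨_, _, _, fun e => hcon.1 (congrArg Subtype.val e).symm,
      fun e => hab (congrArg Subtype.val e).symm, fun e => hcon.2 (congrArg Subtype.val e), rfl⟩,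
      ← Nat.card_eq_fintype_card] at h3
    have := h.card_commutator
    omega
  have hz2 : z * z = 1 := by
    rcases hall _ (mul_mem hzc hzc) with e | e
    · exact e
    · exact absurd (mul_eq_left.1 e) hab
  refine ⟨z, orderOf_eq_prime (by rw [pow_two]; exact hz2) hab, ?_, fun c => ⟨hall c, ?_⟩, a, b, rfl⟩
  · refine mem_center_iff.2 fun g => ?_
    rcases hall _ ((inferInstance : (commutator ↥(P : Subgroup G)).Normal).conj_mem z hzc g) with e | e
    · exact absurd (by simpa using e) hab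
    · exact mul_inv_eq_iff_eq_mul.1 e
  · rintro (rfl | rfl)
    · exact one_mem _
    · exact hzc

/-- The case of an isolated commutator is impossible. -/
theorem Setting.not_isolated {P : Sylow 2 G} (h : Setting G P)
    (hP : ¬ IsMulCommutative ↥(P : Subgroup G)) {z : ↥(P : Subgroup G)} (hz2 : orderOf z = 2)
    (hcm : ∀ c, c ∈ commutator ↥(P : Subgroup G) ↔ c = 1 ∨ c = z) :
    ∃ g : G, g * (z : G) * g⁻¹ ∈ (P : Subgroup G) ∧ g * (z : G) * g⁻¹ ≠ z := by
  classical
  haveI : Fact (Nat.Prime 2) := ⟨Nat.prime_two⟩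
  by_contra hcon
  push Not at hcon
  have hz2' : orderOf (z : G) = 2 := by rw [Subgroup.orderOf_coe]; exact hz2
  obtain ⟨N, hN, hNo, hNz⟩ := Involution.ZStar.exists_odd_normal_of_sylow P hz2' z.2 hcon
  have hN1 : N = ⊥ := le_bot_iff.1 (h.core ▸ CfsgLib.Solvable.Cores.le_pPrimeCore
    (Nat.coprime_two_right.2 hNo))
  have hzcen : ∀ g : G, g * (z : G) = (z : G) * g := fun g => by
    have h1 := hNz g
    rw [hN1, mem_bot, mul_inv_eq_one, mul_inv_eq_iff_eq_mul] at h1
    exact h1.symm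
  set Q : Subgroup G := zpowers (z : G) with hQdef
  have hQc : ∀ q ∈ Q, ∀ g : G, g * q = q * g := by
    intro q hq g
    obtain ⟨j, rfl⟩ := mem_zpowers_iff.1 hq
    exact (show Commute g (z : G) from hzcen g).zpow_right j
  haveI hQn : Q.Normal := ⟨fun q hq g => by rw [hQc q hq g, mul_inv_cancel_right]; exact hq⟩
  have hQP : Q ≤ (P : Subgroup G) := zpowers_le.2 z.2
  have hQ2 : Nat.card Q = 2 := by rw [hQdef, Nat.card_zpowers, hz2']
  -- commutators in `P` lie in `Q`
  have hPQ : ∀ x y : ↥(P : Subgroup G), IsConj x y → (x : G)⁻¹ * y ∈ Q := by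
    intro x y hxy
    rcases (hcm _).1 (inv_mul_mem_commutator hxy) with e | e
    · have e' : (x : G)⁻¹ * y = 1 := congrArg Subtype.val e
      rw [e']; exact one_mem _
    · have e' : (x : G)⁻¹ * y = z := congrArg Subtype.val e
      rw [e']; exact mem_zpowers _
  -- the elements moving `x` only inside `xQ`
  let S : G → Subgroup G := fun x =>
    { carrier := {n | x⁻¹ * (n * x * n⁻¹) ∈ Q}
      one_mem' := by simp [Q.one_mem]
      mul_mem' := fun {a b} ha hb => by
        show x⁻¹ * (a * b * x * (a * b)⁻¹) ∈ Q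
        have hb' : b * x * b⁻¹ = x * (x⁻¹ * (b * x * b⁻¹)) := by group
        rw [show a * b * x * (a * b)⁻¹ = a * (b * x * b⁻¹) * a⁻¹ by group, hb']
        rw [show x⁻¹ * (a * (x * (x⁻¹ * (b * x * b⁻¹))) * a⁻¹) =
          x⁻¹ * (a * x * a⁻¹) * (a * (x⁻¹ * (b * x * b⁻¹)) * a⁻¹) by group]
        exact Q.mul_mem ha (hQn.conj_mem _ hb a)
      inv_mem' := fun {a} ha => by
        show x⁻¹ * (a⁻¹ * x * a⁻¹⁻¹) ∈ Q
        have := hQn.conj_mem _ (Q.inv_mem ha) a⁻¹
        convert this using 1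
        group }
  have hmemS : ∀ x n : G, n ∈ S x ↔ x⁻¹ * (n * x * n⁻¹) ∈ Q := fun _ _ => Iff.rfl
  have htwo : ∀ n ∈ normalizer (P : Set G), (∃ k : ℕ, n ^ 2 ^ k = 1) → n ∈ (P : Subgroup G) := by
    intro n hn hk
    obtain ⟨k, hk⟩ := hk
    obtain ⟨i, -, hi⟩ := (Nat.dvd_prime_pow Nat.prime_two).1 (orderOf_dvd_of_pow_eq_one hk)
    have hp : IsPGroup 2 (zpowers n) := IsPGroup.of_card (n := i) ((Nat.card_zpowers n).trans hi)
    exact (P.3 (hp.to_sup_of_normal_right' P.2 (zpowers_le.2 hn)) le_sup_right) ▸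
      mem_sup_left (mem_zpowers n)
  by_cases hall : ∀ n ∈ normalizer (P : Set G), Odd (orderOf n) → ∀ x ∈ (P : Subgroup G), n ∈ S x
  · -- then `G` has a small `O^2`
    set π := QuotientGroup.mk' Q
    set P' : Sylow 2 (G ⧸ Q) := P.mapSurjective (QuotientGroup.mk'_surjective Q) with hP'
    have hcoe : ((P' : Subgroup (G ⧸ Q))) = (P : Subgroup G).map π := Sylow.coe_mapSurjective _ _
    have hnpc : Cfsg.HasNormalPComplement 2 (G ⧸ Q) := by
      refine npc_of_normalizer_le_centralizer P' fun n hn => mem_centralizer_iff.2 fun q hq => ?_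
      obtain ⟨n, rfl⟩ := QuotientGroup.mk'_surjective Q n
      have hq' : q ∈ (P' : Subgroup (G ⧸ Q)) := hq
      rw [hcoe] at hq'
      obtain ⟨x, hx, rfl⟩ := hq'
      have hnN : n ∈ normalizer (P : Set G) := by
        refine mem_normalizer_fintype fun y hy => ?_
        have h1 := (mem_normalizer_iff.1 hn (π y)).1 (by rw [hcoe]; exact ⟨y, hy, rfl⟩)
        rw [hcoe] at h1
        obtain ⟨w, hw, he⟩ := h1
        have he' : π w = π (n * y * n⁻¹) := by rw [he, map_mul, map_mul, map_inv]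
        show n * y * n⁻¹ ∈ (P : Subgroup G)
        rw [show n * y * n⁻¹ = w * (w⁻¹ * (n * y * n⁻¹)) by group]
        exact mul_mem hw (hQP (QuotientGroup.eq.1 he'))
      have hnS : n ∈ S x := mem_of_two_of_odd
        (fun j hj => hPQ ⟨x, hx⟩ ⟨n ^ j * x * (n ^ j)⁻¹, (mem_normalizer_iff.1 (zpow_mem hnN j) x).1 hx⟩
          (isConj_iff.2 ⟨⟨n ^ j, htwo _ (zpow_mem hnN j) hj⟩, rfl⟩))
        (fun j hj => hall _ (zpow_mem hnN j) hj x hx)
      have he : π x = π (n * x * n⁻¹) := QuotientGroup.eq.2 hnS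
      rw [map_mul, map_mul, map_inv, eq_mul_inv_iff_mul_eq] at he
      exact he
    have hle : (P : Subgroup G) ⊓ Cfsg.pResidual 2 G ≤ Q := by
      intro x hx
      have h1 : π x ∈ (P' : Subgroup (G ⧸ Q)) ⊓ Cfsg.pResidual 2 (G ⧸ Q) :=
        ⟨by rw [hcoe]; exact ⟨x, hx.1, rfl⟩, map_pResidual_le π ⟨x, hx.2, rfl⟩⟩
      rw [(npc_iff_inf P').1 hnpc, mem_bot] at h1
      exact (QuotientGroup.eq_one_iff x).1 h1
    have := h.inf_pResidual_gt_two
    have := Nat.le_of_dvd Nat.card_pos (card_dvd_of_le hle)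
    omega
  · push Not at hall
    obtain ⟨t, htn, hto, x₀, hx₀P, hx₀⟩ := hall
    set F : Subgroup ↥(P : Subgroup G) :=
      { carrier := {x | t ∈ S (x : G)}
        one_mem' := by
          show (1 : G)⁻¹ * (t * 1 * t⁻¹) ∈ Q
          simp [Q.one_mem]
        mul_mem' := fun {a b} ha hb => by
          show ((a : G) * b)⁻¹ * (t * ((a : G) * b) * t⁻¹) ∈ Q
          rw [show ((a : G) * b)⁻¹ * (t * ((a : G) * b) * t⁻¹) =
            (b : G)⁻¹ * ((a : G)⁻¹ * (t * a * t⁻¹)) * b * ((b : G)⁻¹ * (t * b * t⁻¹)) by group,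
            mul_assoc (b : G)⁻¹, ← hQc _ ha, inv_mul_cancel_left]
          exact Q.mul_mem ha hb
        inv_mem' := fun {a} ha => by
          show ((a : G)⁻¹)⁻¹ * (t * (a : G)⁻¹ * t⁻¹) ∈ Q
          have := hQn.conj_mem _ (Q.inv_mem ha) (a : G)
          convert this using 1
          group } with hF
    have hFmem : ∀ x, x ∈ F ↔ t ∈ S (x : G) := fun _ => Iff.rfl
    have hFne : 2 * Nat.card F ≤ Nat.card ↥(P : Subgroup G) := by
      have h1 : F.index ≠ 1 := fun e =>
        hx₀ ((hFmem ⟨x₀, hx₀P⟩).1 ((index_eq_one.1 e) ▸ mem_top _))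
      have h2 : 0 < F.index := Nat.pos_of_ne_zero index_ne_zero_of_finite
      rw [← F.card_mul_index, mul_comm 2]
      exact Nat.mul_le_mul_left _ (by omega)
    cases nonempty_fintype G
    letI : Fintype (TwoClasses G) := Fintype.ofFinite _
    letI : Fintype (ConjClasses ↥(P : Subgroup G)) := Fintype.ofFinite _
    set A := Finset.univ.filter fun x : ↥(P : Subgroup G) => x ∉ F with hA
    set M := A.image ConjClasses.mk with hM
    have hAcard : A.card + Nat.card F = Nat.card ↥(P : Subgroup G) := by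
      rw [Nat.card_eq_fintype_card (α := ↥(P : Subgroup G)), Nat.card_eq_fintype_card,
        Fintype.card_subtype, hA, add_comm, Finset.card_filter_add_card_filter_not, Finset.card_univ]
    have hAM : A.card ≤ 2 * M.card := by
      rw [hM]
      refine Finset.card_le_mul_card_image A 2 fun c hc => ?_
      obtain ⟨x, -, rfl⟩ := Finset.mem_image.1 hc
      calc _ ≤ ({x, x * z} : Finset _).card := Finset.card_le_card fun y hy => by
            have hyx := (ConjClasses.mk_eq_mk_iff_isConj.1 (Finset.mem_filter.1 hy).2).symm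
            simp only [Finset.mem_insert, Finset.mem_singleton]
            rcases (hcm _).1 (inv_mul_mem_commutator hyx) with e | e
            · exact Or.inl (inv_mul_eq_one.1 e).symm
            · exact Or.inr (inv_mul_eq_iff_eq_mul.1 e)
        _ ≤ 2 := Finset.card_le_two
    have hfib : ∀ c ∈ M, 3 ≤ (Finset.univ.filter fun d => toClass P d = toClass P c).card := by
      intro c hc
      obtain ⟨x, hx, rfl⟩ := Finset.mem_image.1 hc
      have hxS : t ∉ S (x : G) := (Finset.mem_filter.1 hx).2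
      have ht2 := mul_mem htn htn
      let y : ↥(P : Subgroup G) := ⟨t * x * t⁻¹, (mem_normalizer_iff.1 htn x).1 x.2⟩
      let w : ↥(P : Subgroup G) := ⟨t * t * x * (t * t)⁻¹, (mem_normalizer_iff.1 ht2 x).1 x.2⟩
      have d1 : ConjClasses.mk x ≠ ConjClasses.mk y := fun e =>
        hxS (hPQ x y (ConjClasses.mk_eq_mk_iff_isConj.1 e))
      have d2 : ConjClasses.mk x ≠ ConjClasses.mk w := fun e =>
        hxS (mem_of_sq_mem hto (hPQ x w (ConjClasses.mk_eq_mk_iff_isConj.1 e)))
      have d3 : ConjClasses.mk y ≠ ConjClasses.mk w := by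
        intro e
        refine hxS ?_
        have := hQn.conj_mem _ (hPQ y w (ConjClasses.mk_eq_mk_iff_isConj.1 e)) t⁻¹
        show (x : G)⁻¹ * (t * x * t⁻¹) ∈ Q
        convert this using 1
        simp only [y, w]
        group
      calc 3 = ({ConjClasses.mk x, ConjClasses.mk y, ConjClasses.mk w} : Finset _).card :=
            (Finset.card_eq_three.2 ⟨_, _, _, d1, d2, d3, rfl⟩).symm
        _ ≤ _ := Finset.card_le_card fun d hd => by
            simp only [Finset.mem_insert, Finset.mem_singleton] at hd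
            refine Finset.mem_filter.2 ⟨Finset.mem_univ _, ?_⟩
            rcases hd with rfl | rfl | rfl
            · rfl
            · exact (toClass_eq_iff P).2 (isConj_iff.2 ⟨t, rfl⟩).symm
            · exact (toClass_eq_iff P).2 (isConj_iff.2 ⟨t * t, rfl⟩).symm
    have hle := (two_mul_card_add_le (toClass P) (toClass_surjective P) M hfib).1
    simp only [← Nat.card_eq_fintype_card] at hle
    have hhalf := h.half
    have hcl := h.two_mul_classes
    set Z := center ↥(P : Subgroup G)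
    have hZc : Nat.card Z * Z.index = Nat.card ↥(P : Subgroup G) := Z.card_mul_index
    have hZ4 : 4 ≤ Z.index := by
      obtain ⟨m, hm⟩ := P.2.exists_card_eq
      obtain ⟨a, -, ha⟩ := (Nat.dvd_prime_pow Nat.prime_two).1 (hm ▸ Z.index_dvd_card)
      rw [ha]
      by_contra hlt
      have ha2 : a < 2 := by
        by_contra ha2
        exact hlt (le_trans (by norm_num) (Nat.pow_le_pow_right two_pos (Nat.not_lt.1 ha2)))
      refine hP ?_
      haveI : IsCyclic (↥(P : Subgroup G) ⧸ Z) := by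
        interval_cases a
        · haveI : Subsingleton (↥(P : Subgroup G) ⧸ Z) :=
            (Nat.card_eq_one_iff_unique.1 (ha.trans (pow_zero 2))).1
          exact isCyclic_of_subsingleton
        · exact isCyclic_of_prime_card (p := 2) (ha.trans (pow_one 2))
      exact ⟨⟨fun a b => commutative_of_cyclic_center_quotient (QuotientGroup.mk' Z)
        (QuotientGroup.ker_mk' Z).le a b⟩⟩
    have hZpos : 0 < Nat.card Z := Nat.card_pos
    have := Nat.mul_le_mul_left (Nat.card Z) hZ4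
    omega

theorem Setting.fusionBound_of_not_comm {P : Sylow 2 G} (h : Setting G P)
    (hP : ¬ IsMulCommutative ↥(P : Subgroup G)) : FusionBound (P : Subgroup G) := by
  classical
  haveI : Fact (Nat.Prime 2) := ⟨Nat.prime_two⟩
  obtain ⟨z, hz2, hzZ, hcm, a, b, hab⟩ := h.exists_z hP
  obtain ⟨g, hgP, hgne⟩ := h.not_isolated hP hz2 hcm
  set Z := center ↥(P : Subgroup G) with hZ
  have hcenP : ∀ c : ↥(P : Subgroup G), c ∈ Z → (c : G) ∈ centralizer (P : Set G) := fun c hc =>
    mem_centralizer_iff.2 fun y hy => congrArg Subtype.val (mem_center_iff.1 hc ⟨y, hy⟩)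
  -- `N(P)` fixes `z`
  have hfix : ∀ n ∈ normalizer (P : Set G), n * (z : G) * n⁻¹ = z := by
    intro n hn
    have hmem : ∀ y : ↥(P : Subgroup G), n * y * n⁻¹ ∈ (P : Subgroup G) :=
      fun y => (mem_normalizer_iff.1 hn y).1 y.2
    have e1 : n * (z : G) * n⁻¹ =
        ((⁅(⟨_, hmem a⟩ : ↥(P : Subgroup G)), ⟨_, hmem b⟩⁆ : ↥(P : Subgroup G)) : G) := by
      rw [← hab]
      simp only [commutatorElement_def, coe_mul, InvMemClass.coe_inv]
      group
    rcases (hcm _).1 (commutator_mem_commutator (mem_top (⟨_, hmem a⟩ : ↥(P : Subgroup G)))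
      (mem_top (⟨_, hmem b⟩ : ↥(P : Subgroup G)))) with e | e
    · rw [e, coe_one, conj_eq_one_iff] at e1
      have : z = 1 := Subtype.ext e1
      rw [this, orderOf_one] at hz2
      omega
    · rw [e] at e1; exact e1
  set u := g * (z : G) * g⁻¹ with hu
  -- a conjugating element carrying the centre of `P` into `P`
  obtain ⟨c, hc⟩ : ∃ c ∈ centralizer ({(z : G)} : Set G),
      ∀ x : ↥(P : Subgroup G), x ∈ Z → c * (g⁻¹ * x * g) * c⁻¹ ∈ (P : Subgroup G) := by
    have hPH : (P : Subgroup G) ≤ centralizer ({(z : G)} : Set G) := fun x hx =>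
      mem_centralizer_singleton_iff.2 (congrArg Subtype.val (mem_center_iff.1 hzZ ⟨x, hx⟩))
    have hUH : ∀ x : ↥(P : Subgroup G), x ∈ Z → g⁻¹ * x * g ∈ centralizer ({(z : G)} : Set G) := by
      intro x hx
      rw [mem_centralizer_singleton_iff]
      have e : (x : G) * u = u * x := (mem_centralizer_iff.1 (hcenP x hx) u hgP).symm
      calc g⁻¹ * x * g * z = g⁻¹ * (x * u) * g := by rw [hu]; group
        _ = g⁻¹ * (u * x) * g := by rw [e]
        _ = z * (g⁻¹ * x * g) := by rw [hu]; group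
    let φ : Z →* centralizer ({(z : G)} : Set G) :=
      MonoidHom.mk' (fun x => ⟨g⁻¹ * ((x : ↥(P : Subgroup G)) : G) * g, hUH x x.2⟩)
        fun x y => Subtype.ext (by simp [mul_assoc])
    have hp : IsPGroup 2 φ.range :=
      (P.2.to_subgroup Z).of_surjective φ.rangeRestrict φ.rangeRestrict_surjective
    obtain ⟨R, hR⟩ := hp.exists_le_sylow
    obtain ⟨d, hd⟩ := MulAction.exists_smul_eq (centralizer ({(z : G)} : Set G)) R (P.subtype hPH)
    refine ⟨d, d.2, fun x hx => ?_⟩
    have : d * φ ⟨x, hx⟩ * d⁻¹ ∈ (P.subtype hPH : Subgroup _) := by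
      rw [← hd]
      exact ⟨φ ⟨x, hx⟩, hR ⟨_, rfl⟩, rfl⟩
    exact this
  obtain ⟨hcz, hcZ⟩ := hc
  set w := c * g⁻¹ with hw
  have hwu : w * u * w⁻¹ = z := by
    rw [hw, hu]
    calc _ = c * (z : G) * c⁻¹ := by group
      _ = z := by rw [mem_centralizer_singleton_iff.1 hcz, mul_inv_cancel_right]
  let φ : Z →* ↥(P : Subgroup G) :=
    MonoidHom.mk' (fun x => ⟨w * ((x : ↥(P : Subgroup G)) : G) * w⁻¹, by
      rw [hw, show c * g⁻¹ * ((x : ↥(P : Subgroup G)) : G) * (c * g⁻¹)⁻¹ =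
        c * (g⁻¹ * ((x : ↥(P : Subgroup G)) : G) * g) * c⁻¹ by group]
      exact hcZ x x.2⟩) fun x y => Subtype.ext (by simp [mul_assoc])
  have hφ : ∀ x : Z, (φ x : G) = w * ((x : ↥(P : Subgroup G)) : G) * w⁻¹ := fun _ => rfl
  set B : Subgroup Z := Z.comap φ with hB
  set zz : Z := ⟨z, hzZ⟩ with hzz
  have hzB : zz ∉ B := by
    intro hmem
    obtain ⟨n, hn, he⟩ := burnside_central P (hcenP z hzZ) (hcenP _ hmem)
      ⟨w, (hφ zz).symm⟩
    rw [hfix n hn, hφ] at he
    refine hgne (mul_left_cancel (mul_right_cancel (hwu.trans ?_)))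
    exact he
  have hφinj : Function.Injective φ := fun x y e =>
    Subtype.ext (Subtype.ext (mul_left_cancel (mul_right_cancel (congrArg Subtype.val e))))
  have hf : ∀ x : Z, toClass P (ConjClasses.mk (φ x)) = toClass P (ConjClasses.mk (x : ↥(P : Subgroup G))) :=
    fun x => (toClass_eq_iff P).2 (isConj_iff.2 ⟨w, rfl⟩).symm
  let D : Set (ConjClasses ↥(P : Subgroup G)) := {d | ∃ x : Z, x ∉ B ∧ ConjClasses.mk (x : ↥(P : Subgroup G)) = d}
  have hmkinj : ∀ {x y : ↥(P : Subgroup G)}, x ∈ Z → ConjClasses.mk x = ConjClasses.mk y → y = x :=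
    fun hx e => eq_of_isConj_center hx (ConjClasses.mk_eq_mk_iff_isConj.1 e)
  have hDmem : ∀ x : Z, ConjClasses.mk (x : ↥(P : Subgroup G)) ∈ D ↔ x ∉ B := by
    refine fun x => ⟨?_, fun hx => ⟨x, hx, rfl⟩⟩
    rintro ⟨y, hy, e⟩
    rwa [show x = y from Subtype.ext (hmkinj y.2 e)]
  have hDout : ∀ x : Z, x ∉ B → ConjClasses.mk (φ x) ∉ D := by
    rintro x hx ⟨y, -, e⟩
    exact hx (show φ x ∈ Z from (hmkinj y.2 e) ▸ y.2)
  let r : {d // d ∉ D} → TwoClasses G := fun d => toClass P d.1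
  have hrsurj : Function.Surjective r := by
    intro q
    obtain ⟨d, rfl⟩ := toClass_surjective P q
    by_cases hd : d ∈ D
    · obtain ⟨x, hx, rfl⟩ := hd
      exact ⟨⟨_, hDout x hx⟩, hf x⟩
    · exact ⟨⟨d, hd⟩, rfl⟩
  have hDcard : Nat.card D + Nat.card B = Nat.card Z := by
    let e : {x : Z // x ∉ B} ≃ D :=
      Equiv.ofBijective (fun x => ⟨ConjClasses.mk (x.1 : ↥(P : Subgroup G)), x.1, x.2, rfl⟩)
        ⟨fun x y h => Subtype.ext (Subtype.ext (hmkinj x.1.2 (congrArg Subtype.val h)).symm),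
          fun ⟨d, x, hx, e⟩ => ⟨⟨x, hx⟩, Subtype.ext e⟩⟩
    rw [← Nat.card_congr e, add_comm, ← Nat.card_sum]
    exact Nat.card_congr (Equiv.sumCompl fun x : Z => x ∈ B)
  have hsplit : Nat.card D + Nat.card {d // d ∉ D} = Nat.card (ConjClasses ↥(P : Subgroup G)) := by
    rw [← Nat.card_sum]
    exact Nat.card_congr (Equiv.sumCompl fun d => d ∈ D)
  have hle := Nat.card_le_card_of_surjective r hrsurj
  have hhalf := h.half
  have hcl := h.two_mul_classes
  rw [← hZ] at hcl
  have hBi : 2 * Nat.card B ≤ Nat.card Z := by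
    have h1 : B.index ≠ 1 := fun e => hzB ((index_eq_one.1 e) ▸ mem_top _)
    have h2 : 0 < B.index := Nat.pos_of_ne_zero index_ne_zero_of_finite
    rw [← B.card_mul_index, mul_comm 2]
    exact Nat.mul_le_mul_left _ (by omega)
  have hBidx : B.index = 2 := by
    have h1 := B.card_mul_index
    have h2 : 0 < Nat.card B := Nat.card_pos
    have h3 : 2 * Nat.card B = Nat.card Z := by omega
    rw [← h3, mul_comm 2] at h1
    exact Nat.eq_of_mul_eq_mul_left h2 h1
  have hbij : Function.Bijective r :=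
    ⟨((Nat.bijective_iff_surjective_and_card r).2 ⟨hrsurj, by omega⟩).1, hrsurj⟩
  have hinj : ∀ {p q : ↥(P : Subgroup G)}, ConjClasses.mk p ∉ D → ConjClasses.mk q ∉ D →
      IsConj (p : G) q → IsConj p q := fun hp hq hpq =>
    ConjClasses.mk_eq_mk_iff_isConj.1 (congrArg Subtype.val
      (hbij.1 (a₁ := ⟨_, hp⟩) (a₂ := ⟨_, hq⟩) ((toClass_eq_iff P).2 hpq)))
  have hBfix : ∀ x : Z, x ∈ B → φ x = x := by
    intro x hx
    have hy : (⟨φ x, hx⟩ : Z) ∈ B := by
      by_contra hy
      have h1 := hinj (mt (hDmem x).1 (not_not.2 hx)) (hDout ⟨φ x, hx⟩ hy)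
        (((isConj_iff.2 ⟨w, (hφ x).symm⟩ : IsConj _ (φ x : G))).trans
          (isConj_iff.2 ⟨w, (hφ ⟨φ x, hx⟩).symm⟩))
      refine hy ?_
      show φ ⟨φ x, hx⟩ ∈ Z
      rw [eq_of_isConj_center x.2 h1]
      exact x.2
    exact eq_of_isConj_center x.2 (hinj (mt (hDmem x).1 (not_not.2 hx))
      (mt (hDmem ⟨φ x, hx⟩).1 (not_not.2 hy)) (isConj_iff.2 ⟨w, (hφ x).symm⟩))
  set y := φ zz with hy
  have hzsq : z * z = 1 := by rw [← pow_two]; exact orderOf_dvd_iff_pow_eq_one.1 (dvd_of_eq hz2)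
  have hysq : y * y = 1 := by rw [hy, ← map_mul, show zz * zz = 1 from Subtype.ext hzsq, map_one]
  have hzy : (z : G) * y = y * z := (congrArg Subtype.val (mem_center_iff.1 hzZ y)).symm
  set V := Involution.TwoGroupLifts.fourGroup (z : G) (y : G) (congrArg Subtype.val hzsq)
    (congrArg Subtype.val hysq) hzy with hV
  have hzV : (z : G) ∈ V := Or.inr (Or.inl rfl)
  have hyV : (y : G) ∈ V := Or.inr (Or.inr (Or.inl rfl))
  let rr : ↥(P : Subgroup G) → ↥(P : Subgroup G) := fun x =>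
    if hx : x ∈ Z then (if (⟨x, hx⟩ : Z) ∈ B then x else φ ⟨x, hx⟩) else x
  have hrr : ∀ x : ↥(P : Subgroup G), ConjClasses.mk (rr x) ∉ D ∧ IsConj (x : G) (rr x : G) ∧
      ((x : G)⁻¹ * (rr x : G)) ∈ V := by
    intro x
    by_cases hx : x ∈ Z
    · by_cases hxB : (⟨x, hx⟩ : Z) ∈ B
      · simp only [rr, dif_pos hx, if_pos hxB, inv_mul_cancel]
        exact ⟨mt (hDmem ⟨x, hx⟩).1 (not_not.2 hxB), IsConj.refl _, one_mem _⟩
      · simp only [rr, dif_pos hx, if_neg hxB]
        refine ⟨hDout _ hxB, isConj_iff.2 ⟨w, (hφ ⟨x, hx⟩).symm⟩, ?_⟩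
        set X : Z := ⟨x, hx⟩
        have hb : X * zz⁻¹ ∈ B := (mul_mem_iff_of_index_two hBidx).2
          (iff_of_false hxB fun e => hzB (inv_mem_iff.1 e))
        have e : φ X = (X * zz⁻¹ : Z) * y := by
          conv_lhs => rw [← inv_mul_cancel_right X zz, map_mul, hBfix _ hb]
        rw [e]
        have : (x : G)⁻¹ * ((((X * zz⁻¹ : Z) : ↥(P : Subgroup G)) * y : ↥(P : Subgroup G)) : G) =
            (z : G)⁻¹ * (y : G) := by
          show (x : G)⁻¹ * ((x : G) * (z : G)⁻¹ * (y : G)) = _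
          group
        rw [this]
        exact mul_mem (inv_mem hzV) hyV
    · simp only [rr, dif_neg hx, inv_mul_cancel]
      refine ⟨?_, IsConj.refl _, one_mem _⟩
      rintro ⟨y', -, e⟩
      exact hx ((hmkinj y'.2 e) ▸ y'.2)
  refine ⟨V, ?_, ?_, ?_, ?_⟩
  · rintro v (rfl | rfl | rfl | rfl)
    · exact one_mem _
    · exact z.2
    · exact y.2
    · exact mul_mem z.2 y.2
  · have : (V : Set G) ⊆ ↑({1, (z : G), (y : G), (z : G) * y} : Finset G) := fun v hv => by
      simpa [hV, Involution.TwoGroupLifts.mem_fourGroup] using hv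
    calc Nat.card V = (V : Set G).ncard := Nat.card_coe_set_eq _
      _ ≤ _ := Set.ncard_le_ncard this (Finset.finite_toSet _)
      _ ≤ 4 := by rw [Set.ncard_coe_finset]; exact Finset.card_le_four
  · have hz' : (z : G) * z = 1 := congrArg Subtype.val hzsq
    have hy' : (y : G) * y = 1 := congrArg Subtype.val hysq
    rintro v (rfl | rfl | rfl | rfl)
    · exact one_mul 1
    · exact hz'
    · exact hy'
    · rw [show (z : G) * y * (z * y) = z * (y * z) * y by group, ← hzy,
        show (z : G) * (z * y) * y = z * z * (y * y) by group, hz', hy', one_mul]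
  · intro x hx x' hx' hxx
    obtain ⟨a1, a2, a3⟩ := hrr ⟨x, hx⟩
    obtain ⟨b1, b2, b3⟩ := hrr ⟨x', hx'⟩
    have h1 := inv_mul_mem_commutator (hinj a1 b1 ((a2.symm.trans hxx).trans b2))
    have hmid : (rr ⟨x, hx⟩ : G)⁻¹ * (rr ⟨x', hx'⟩ : G) ∈ V := by
      rcases (hcm _).1 h1 with e | e
      · have e' : (rr ⟨x, hx⟩ : G)⁻¹ * (rr ⟨x', hx'⟩ : G) = 1 := congrArg Subtype.val e
        rw [e']; exact one_mem _
      · have e' : (rr ⟨x, hx⟩ : G)⁻¹ * (rr ⟨x', hx'⟩ : G) = z := congrArg Subtype.val e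
        rw [e']; exact hzV
    rw [show x⁻¹ * x' = x⁻¹ * (rr ⟨x, hx⟩ : G) * ((rr ⟨x, hx⟩ : G)⁻¹ * (rr ⟨x', hx'⟩ : G)) *
      (x'⁻¹ * (rr ⟨x', hx'⟩ : G))⁻¹ by group]
    exact mul_mem (mul_mem a3 hmid) (inv_mem b3)

/-- The fusion bound. -/
theorem Setting.fusionBound {P : Sylow 2 G} (h : Setting G P) : FusionBound (P : Subgroup G) :=
  (Classical.em (IsMulCommutative ↥(P : Subgroup G))).elim h.fusionBound_of_comm
    h.fusionBound_of_not_comm

end CfsgLib.Recognition.HalfClasses
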